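import Groth.Agent.BlowUpLib.Exists
import Groth.Agent.SDivLib.FlatDiv
import Groth.Agent.S3861
import Mathlib.AlgebraicGeometry.ProjectiveSpectrum.Proper
import Mathlib.AlgebraicGeometry.Properties

/-!
# Blowing ups: charts, reducedness, properness, products of ideals
-/

set_option autoImplicit false

universe u

open CategoryTheory CategoryTheory.Limits AlgebraicGeometry TopologicalSpace

namespace BlowUpLib

variable {X X' : Scheme.{u}} {b : X' ⟶ X} {𝓘 : X.IdealSheafData}

theorem comap_mul {Y Z : Scheme.{u}} (f : Z ⟶ Y) (I J : Y.IdealSheafData) :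
    (I * J).comap f = I.comap f * J.comap f :=
  Groth.Agent.S3861.result f I J

theorem comap_fromSpec (𝓘 : X.IdealSheafData) (U : X.affineOpens) :
    𝓘.comap U.2.fromSpec = specIdeal (A := Γ(X, U.1)) (𝓘.ideal U) := by
  refine Scheme.IdealSheafData.ext_of_isAffine ?_
  rw [specIdeal_top, ChevLib.ideal_comap_openImmersion_top 𝓘 U.2.fromSpec U
    ((Scheme.Hom.image_top_eq_opensRange _).trans U.2.opensRange_fromSpec)]
  congr 1
  rw [Scheme.Hom.appLE, U.2.fromSpec_app_self]
  ext t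
  simp only [Category.assoc, ← Functor.map_comp, CommRingCat.hom_comp, RingHom.comp_apply]
  exact DFunLike.congr_fun (congrArg CommRingCat.Hom.hom
    ((congrArg ((Spec Γ(X, U.1)).presheaf.map) (Subsingleton.elim _ (𝟙 _))).trans
      ((Spec Γ(X, U.1)).presheaf.map_id _))) _

/-- Two blow-ups of the same ideal are isomorphic over the base. -/
theorem exists_iso {X'' : Scheme.{u}} {b' : X'' ⟶ X} (hb : BlowUp.IsBlowUp b 𝓘)
    (hb' : BlowUp.IsBlowUp b' 𝓘) : ∃ e : X'' ≅ X', e.hom ≫ b = b' := by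
  obtain ⟨f, hf, -⟩ := hb.2 _ b' hb'.1
  obtain ⟨g, hg, -⟩ := hb'.2 _ b hb.1
  exact ⟨⟨f, g, hom_ext hb' _ hb'.1 (by rw [Category.assoc, hg, hf]) (Category.id_comp _),
    hom_ext hb _ hb.1 (by rw [Category.assoc, hf, hg]) (Category.id_comp _)⟩, hf⟩

section affine

variable {A : Type u} [CommRing A] (I : Ideal A)

/-- On a blow-up of an affine scheme: the standard affine charts. -/
theorem exists_chart_spec {P : Scheme.{u}} {p : P ⟶ Spec (CommRingCat.of A)}
    (hp : BlowUp.IsBlowUp p (specIdeal I)) (x : P) :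
    ∃ (a : A) (_ : a ∈ I) (c : Spec (CommRingCat.of (BlowUp.affineAlgebra A I a)) ⟶ P)
      (_ : IsOpenImmersion c), x ∈ Set.range c ∧
        c ≫ p = Spec.map (CommRingCat.ofHom (algebraMap A (BlowUp.affineAlgebra A I a))) := by
  obtain ⟨e, he⟩ := exists_iso hp (isBlowUp_proj I)
  obtain ⟨⟨a, ha⟩, hx⟩ := exists_degOne_notMem I (e.inv x)
  rw [← Proj.opensRange_awayι _ _ (degOne_mem I a ha) one_pos] at hx
  obtain ⟨q, hq⟩ := hx
  let w := RingEquiv.toCommRingCatIso (R := HomogeneousLocalization.Away (Rees.deg (reesAlgebra I)) (degOne I a ha))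
    (S := BlowUp.affineAlgebra A I a) (awayEquiv I a ha)
  refine ⟨a, ha, Spec.map w.hom ≫ Proj.awayι _ _ (degOne_mem I a ha) one_pos ≫ e.hom, inferInstance,
    ⟨Spec.map w.inv q, ?_⟩, ?_⟩
  · rw [← Scheme.Hom.comp_apply, ← Category.assoc, ← Spec.map_comp, w.hom_inv_id, Spec.map_id,
      Category.id_comp, Scheme.Hom.comp_apply, hq, ← Scheme.Hom.comp_apply, e.inv_hom_id]
    rfl
  · rw [Category.assoc, Category.assoc, he]
    change _ ≫ _ ≫ Proj.toSpecZero _ ≫ Spec.map _ = _
    rw [Proj.awayι_toSpecZero_assoc, ← Spec.map_comp, ← Spec.map_comp]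
    exact congrArg (fun φ => Spec.map (CommRingCat.ofHom φ)) (awayEquiv_comp I a ha)

end affine

/-- The standard affine charts of a blow-up over an affine open of the base. -/
theorem exists_chart (hb : BlowUp.IsBlowUp b 𝓘) (U : X.affineOpens) (x' : X') (hx : b x' ∈ U.1) :
    ∃ (a : Γ(X, U.1)) (_ : a ∈ 𝓘.ideal U)
      (c : Spec (CommRingCat.of (BlowUp.affineAlgebra Γ(X, U.1) (𝓘.ideal U) a)) ⟶ X')
      (_ : IsOpenImmersion c), x' ∈ Set.range c ∧
        c ≫ b = Spec.map (CommRingCat.ofHom (algebraMap Γ(X, U.1) _)) ≫ U.2.fromSpec := by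
  have hP : BlowUp.IsBlowUp (pullback.fst U.2.fromSpec b) (specIdeal (A := Γ(X, U.1)) (𝓘.ideal U)) :=
    comap_fromSpec 𝓘 U ▸ isBlowUp_of_isPullback (IsPullback.of_hasPullback U.2.fromSpec b).flip hb
  obtain ⟨z, hz⟩ : b x' ∈ Set.range U.2.fromSpec := U.2.range_fromSpec.symm ▸ hx
  obtain ⟨y, -, hy⟩ := Scheme.Pullback.exists_preimage_pullback (f := U.2.fromSpec) (g := b) z x' hz
  obtain ⟨a, ha, c, _, ⟨q, hq⟩, hc⟩ := exists_chart_spec (𝓘.ideal U) hP y
  refine ⟨a, ha, c ≫ pullback.snd U.2.fromSpec b, inferInstance, ⟨q, ?_⟩, ?_⟩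
  · rw [Scheme.Hom.comp_apply, hq, hy]
  · rw [Category.assoc, ← pullback.condition, reassoc_of% hc]

theorem isReduced_of_isBlowUp [IsReduced X] (hb : BlowUp.IsBlowUp b 𝓘) : IsReduced X' := by
  have h : ∀ x' : X', ∃ (Z : Scheme.{u}) (c : Z ⟶ X'), IsOpenImmersion c ∧ IsReduced Z ∧ x' ∈ Set.range c := by
    intro x'
    obtain ⟨U, hU, hxU, -⟩ := exists_isAffineOpen_mem_and_subset (x := b x') (U := ⊤) trivial
    obtain ⟨a, ha, c, hc, hx, -⟩ := exists_chart hb ⟨U, hU⟩ x' hxU
    have : _root_.IsReduced (BlowUp.affineAlgebra Γ(X, U) (𝓘.ideal ⟨U, hU⟩) a) := by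
      have : _root_.IsReduced (Localization.Away a) :=
        isReduced_localizationPreserves (Submonoid.powers a) _ inferInstance
      exact isReduced_of_injective (BlowUp.affineAlgebra Γ(X, U) (𝓘.ideal ⟨U, hU⟩) a).val
        Subtype.val_injective
    exact ⟨_, c, hc, inferInstance, hx⟩
  choose Z c hc hZ hx using h
  have hst : ∀ x' : X', _root_.IsReduced (X'.presheaf.stalk x') := fun x' => by
    have := hc x'
    have := hZ x'
    obtain ⟨z, hz⟩ := hx x'
    rw [← hz]
    exact isReduced_of_injective _ (ConcreteCategory.bijective_of_isIso ((c x').stalkMap z)).1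
  exact isReduced_of_isReduced_stalk X'

/-- A blowing up in an ideal of finite type is proper. -/
theorem isProper_of_isBlowUp (hb : BlowUp.IsBlowUp b 𝓘) (h𝓘 : BlowUp.IsFiniteTypeIdeal 𝓘) :
    IsProper b := by
  rw [IsZariskiLocalAtTarget.iff_of_iSup_eq_top (P := @IsProper) (fun U : X.affineOpens => U.1)
    (iSup_affineOpens_eq_top X)]
  intro U
  have : IsProper (Proj.toSpecZero (Rees.deg (reesAlgebra (𝓘.ideal U)))) := by
    have : Algebra.FiniteType Γ(X, U.1) (reesAlgebra (𝓘.ideal U)) :=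
      (Subalgebra.fg_iff_finiteType _).mp (reesAlgebra.fg (h𝓘 U))
    have : Algebra.FiniteType (Rees.deg (reesAlgebra (𝓘.ideal U)) 0) (reesAlgebra (𝓘.ideal U)) :=
      haveI : IsScalarTower Γ(X, U.1) (Rees.deg (reesAlgebra (𝓘.ideal U)) 0) (reesAlgebra (𝓘.ideal U)) :=
        IsScalarTower.of_algebraMap_eq (R := Γ(X, U.1)) (S := Rees.deg (reesAlgebra (𝓘.ideal U)) 0)
          (A := reesAlgebra (𝓘.ideal U)) fun r => rfl
      Algebra.FiniteType.of_restrictScalars_finiteType Γ(X, U.1) _ _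
    infer_instance
  have h0 : Function.Bijective (algebraMap Γ(X, U.1) (Rees.deg (reesAlgebra (𝓘.ideal U)) 0)) := by
    refine ⟨fun r s h => ?_, fun s => ⟨(s.1 : Polynomial Γ(X, U.1)).coeff 0, ?_⟩⟩
    · have := congrArg (fun z => ((z.1 : reesAlgebra (𝓘.ideal U)) : Polynomial Γ(X, U.1)).coeff 0) h
      simpa using this
    · refine Subtype.ext (Subtype.ext ?_)
      conv_rhs => rw [eq_monomial (𝓘.ideal U) s.2]
      rfl
  have : IsIso (Spec.map (CommRingCat.ofHom (R := Γ(X, U.1)) (S := ↥(Rees.deg (reesAlgebra (𝓘.ideal U)) 0))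
      (algebraMap Γ(X, U.1) (Rees.deg (reesAlgebra (𝓘.ideal U)) 0)))) := by
    have : IsIso (CommRingCat.ofHom (R := Γ(X, U.1)) (S := ↥(Rees.deg (reesAlgebra (𝓘.ideal U)) 0))
      (algebraMap Γ(X, U.1) (Rees.deg (reesAlgebra (𝓘.ideal U)) 0))) :=
      (ConcreteCategory.isIso_iff_bijective _).mpr h0
    infer_instance
  have hPr : IsProper (Proj (Rees.deg (reesAlgebra (𝓘.ideal U))) ↘ Spec (CommRingCat.of Γ(X, U.1))) :=
    inferInstanceAs (IsProper (_ ≫ _))
  have hP : BlowUp.IsBlowUp (pullback.fst U.2.fromSpec b) (specIdeal (A := Γ(X, U.1)) (𝓘.ideal U)) :=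
    comap_fromSpec 𝓘 U ▸ isBlowUp_of_isPullback (IsPullback.of_hasPullback U.2.fromSpec b).flip hb
  obtain ⟨e, he⟩ := exists_iso (isBlowUp_proj (𝓘.ideal U)) hP
  have h1 : IsProper (pullback.fst U.2.fromSpec b) := by rw [← he]; infer_instance
  have hpb : IsPullback (b ∣_ U.1 ≫ U.2.isoSpec.hom) (b ⁻¹ᵁ U.1).ι U.2.fromSpec b :=
    (isPullback_morphismRestrict b U.1).of_iso (Iso.refl _) U.2.isoSpec (Iso.refl _) (Iso.refl _)
      (by simp) (by simp) (by simp) (by simp)
  have h2 : IsProper (b ∣_ U.1 ≫ U.2.isoSpec.hom) := by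
    rw [← hpb.isoPullback_hom_fst]
    infer_instance
  exact (MorphismProperty.cancel_right_of_respectsIso @IsProper _ _).mp h2

section mul

theorem cancel_eq {R : Type u} [CommRing R] {a c t u v w y : R} (ha : a ∈ nonZeroDivisors R)
    (e : a * c = t * u) (hw : a * y = t * w) (hv : v * u = 1) : y = c * (v * w) := by
  refine sub_eq_zero.mp (mem_nonZeroDivisors_iff_right.mp ha _ ?_)
  linear_combination hw - v * w * e - w * t * hv

/-- If a product of two ideals is effective Cartier, so is the first factor. -/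
theorem isEffCartier_of_mul {I J : X.IdealSheafData} (h : BlowUp.IsEffCartierIdeal (I * J)) :
    BlowUp.IsEffCartierIdeal J := by
  intro x
  obtain ⟨U, hxU, t, ht, hU⟩ := h x
  rw [Scheme.IdealSheafData.ideal_mul, Pi.mul_apply] at hU
  let q := U.2.primeIdealOf ⟨x, hxU⟩
  have : ∃ a ∈ I.ideal U, ∃ c ∈ J.ideal U, ∃ u ∉ q.asIdeal, a * c = t * u := by
    by_contra hne
    simp only [not_exists, not_and] at hne
    have hle : I.ideal U * J.ideal U ≤ Ideal.span {t} * q.asIdeal := by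
      refine Ideal.mul_le.mpr fun a ha c hc => ?_
      obtain ⟨u, hu⟩ := Ideal.mem_span_singleton.mp (hU ▸ Ideal.mul_mem_mul ha hc)
      by_cases huq : u ∈ q.asIdeal
      · rw [hu]
        exact Ideal.mul_mem_mul (Ideal.mem_span_singleton_self t) huq
      · exact absurd hu (hne a ha c hc u huq)
    obtain ⟨w, hw, hwt⟩ := Ideal.mem_span_singleton_mul.mp (hle (hU ▸ Ideal.mem_span_singleton_self t))
    have : (1 - w) * t = 0 := by linear_combination -hwt
    exact q.2.ne_top ((Ideal.eq_top_iff_one _).mpr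
      (by rwa [sub_eq_zero.mp (mem_nonZeroDivisors_iff_right.mp ht _ this)]))
  obtain ⟨a, ha, c, hc, u, hu, hac⟩ := this
  let V : X.affineOpens := X.affineBasicOpen u
  let r : Γ(X, U.1) →+* Γ(X, X.basicOpen u) := (X.presheaf.map (homOfLE (X.basicOpen_le u)).op).hom
  have hxV : x ∈ X.basicOpen u := by
    have : q ∈ PrimeSpectrum.basicOpen u := hu
    rw [← U.2.fromSpec_preimage_basicOpen] at this
    have h' : U.2.fromSpec q ∈ X.basicOpen u := this
    rwa [U.2.fromSpec_primeIdealOf] at h'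
  have hru : IsUnit (r u) := RingedSpace.isUnit_res_basicOpen X.toRingedSpace u
  have hrt : r t ∈ nonZeroDivisors Γ(X, X.basicOpen u) := by
    letI := r.toAlgebra
    haveI : IsLocalization.Away u Γ(X, X.basicOpen u) := U.2.isLocalization_basicOpen u
    exact IsLocalization.map_nonZeroDivisors_le (Submonoid.powers u) _ (Submonoid.mem_map_of_mem _ ht)
  have hrac : r a * r c ∈ nonZeroDivisors Γ(X, X.basicOpen u) := by
    rw [← map_mul, hac, map_mul]
    exact mul_mem hrt hru.mem_nonZeroDivisors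
  refine ⟨V, hxV, r c, (mul_mem_nonZeroDivisors.mp hrac).2, ?_⟩
  refine le_antisymm (fun (y : Γ(X, X.basicOpen u)) hy => ?_) ((Ideal.span_singleton_le_iff_mem _).mpr
    (J.ideal_le_comap_ideal (U := V) (V := U) (X.basicOpen_le u) hc))
  have hIV : I.ideal V * J.ideal V = Ideal.span {r t} := by
    have : (I * J).ideal V = Ideal.span {r t} := by
      rw [← (I * J).map_ideal (U := V) (V := U) (X.basicOpen_le u), Scheme.IdealSheafData.ideal_mul,
        Pi.mul_apply, hU, Ideal.map_span, Set.image_singleton]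
      rfl
    rwa [Scheme.IdealSheafData.ideal_mul, Pi.mul_apply] at this
  have haV : r a ∈ I.ideal V := I.ideal_le_comap_ideal (U := V) (V := U) (X.basicOpen_le u) ha
  obtain ⟨w, hw⟩ := Ideal.mem_span_singleton.mp (hIV ▸ Ideal.mul_mem_mul haV hy)
  obtain ⟨v, hv⟩ := hru.exists_left_inv
  refine Ideal.mem_span_singleton.mpr ⟨v * w, ?_⟩
  have e : r a * r c = r t * r u := by rw [← map_mul, hac, map_mul]
  exact cancel_eq (mul_mem_nonZeroDivisors.mp hrac).1 e hw hv

/-- The pullback of an effective Cartier divisor to a blow-up is effective Cartier. -/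
theorem isEffCartier_comap (hb : BlowUp.IsBlowUp b 𝓘) {𝓓 : X.IdealSheafData}
    (h𝓓 : BlowUp.IsEffCartierIdeal 𝓓) : BlowUp.IsEffCartierIdeal (𝓓.comap b) := by
  refine isEffCartier_of_cover fun x' => ?_
  obtain ⟨U, hxU, f, hf, hU⟩ := h𝓓 (b x')
  obtain ⟨a, -, c, hc, hx, hcb⟩ := exists_chart hb U x' hxU
  refine ⟨_, c, hc, hx, ?_⟩
  rw [← Scheme.IdealSheafData.comap_comp, hcb, Scheme.IdealSheafData.comap_comp, comap_fromSpec,
    comap_specIdeal, hU, Ideal.map_span, Set.image_singleton]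
  refine isEffCartier_specIdeal (mem_nonZeroDivisors_iff_right.mpr fun z hz => Subtype.ext ?_)
  exact mem_nonZeroDivisors_iff_right.mp
    (IsLocalization.map_nonZeroDivisors_le (Submonoid.powers a) (Localization.Away a)
      (Submonoid.mem_map_of_mem _ hf)) _ (congrArg Subtype.val hz)

theorem isBlowUp_mul_effCartier (hb : BlowUp.IsBlowUp b 𝓘) {𝓓 : X.IdealSheafData}
    (h𝓓 : BlowUp.IsEffCartierIdeal 𝓓) : BlowUp.IsBlowUp b (𝓘 * 𝓓) := by
  refine ⟨comap_mul b _ _ ▸ SDivLib.isEffCartier_mul hb.1 (isEffCartier_comap hb h𝓓), fun Y g hg => ?_⟩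
  rw [comap_mul, mul_comm] at hg
  exact hb.2 Y g (isEffCartier_of_mul hg)

end mul

end BlowUpLib
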