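import Groth.Prelude.Def_BlowUp2
import Groth.Prelude.Def_Rees
import Mathlib.RingTheory.GradedAlgebra.HomogeneousLocalization
import Mathlib.RingTheory.Ideal.Operations

/-!
# The affine charts of a blowing up: universal property of `A[I/a]`, comparison with `(Rees I)_(aX)`
-/

set_option autoImplicit false

universe u

namespace BlowUpLib

variable {A : Type u} [CommRing A]

/-- `ι : A → C` is the `a`-chart of the blowing up of `A` in `I`. -/
structure IsChart {C : Type u} [CommRing C] (I : Ideal A) (a : A) (ι : A →+* C) : Prop where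
  nzd : ι a ∈ nonZeroDivisors C
  span : I.map ι = Ideal.span {ι a}
  lift : ∀ (B : Type u) [CommRing B] (φ : A →+* B), φ a ∈ nonZeroDivisors B →
    I.map φ = Ideal.span {φ a} → ∃! ψ : C →+* B, ψ.comp ι = φ

theorem IsChart.of_ringEquiv {C C' : Type u} [CommRing C] [CommRing C'] {I : Ideal A} {a : A}
    {ι : A →+* C} {ι' : A →+* C'} (e : C ≃+* C') (he : (e : C →+* C').comp ι = ι')
    (h : IsChart I a ι) : IsChart I a ι' where
  nzd := by
    subst he
    refine mem_nonZeroDivisors_iff_right.mpr fun z hz => ?_
    obtain ⟨w, rfl⟩ := e.surjective z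
    have : w * ι a = 0 := e.injective (by simpa using hz)
    rw [mem_nonZeroDivisors_iff_right.mp h.nzd w this, map_zero]
  span := by
    subst he
    rw [← Ideal.map_map, h.span, Ideal.map_span, Set.image_singleton]
    rfl
  lift B _ φ h1 h2 := by
    obtain ⟨ψ, hψ, hu⟩ := h.lift B φ h1 h2
    refine ⟨ψ.comp (e.symm : C' →+* C), ?_, fun χ hχ => ?_⟩
    · subst he
      ext x
      simpa using RingHom.congr_fun hψ x
    · subst he
      have : χ.comp (e : C →+* C') = ψ := hu _ ((RingHom.comp_assoc _ _ _).trans hχ)
      ext x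
      obtain ⟨w, rfl⟩ := e.surjective x
      simpa using RingHom.congr_fun this w

section affineAlgebra

variable (I : Ideal A) (a : A)

noncomputable abbrev frac (x : A) (n : ℕ) : Localization.Away a :=
  IsLocalization.mk' (Localization.Away a) x (⟨a ^ n, n, rfl⟩ : Submonoid.powers a)

theorem frac_mem {n : ℕ} {x : A} (hx : x ∈ I ^ n) : frac a x n ∈ BlowUp.affineAlgebra A I a := by
  induction n generalizing x with
  | zero =>
    have : frac a x 0 = algebraMap A _ x := by
      simp only [frac, pow_zero]
      exact IsLocalization.mk'_one (Localization.Away a) x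
    rw [this]
    exact Subalgebra.algebraMap_mem _ _
  | succ n ih =>
    rw [pow_succ'] at hx
    refine Submodule.mul_induction_on hx (fun y hy z hz => ?_) fun y z hy hz => ?_
    · have e : frac a (y * z) (n + 1) = frac a y 1 * frac a z n := by
        simp only [frac]
        rw [← IsLocalization.mk'_mul]
        congr 1
        exact Subtype.ext (by simp [pow_succ'])
      rw [e]
      refine mul_mem (Algebra.subset_adjoin ⟨y, hy, ?_⟩) (ih hz)
      exact congrArg (IsLocalization.mk' (Localization.Away a) y) (Subtype.ext (pow_one a))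
    · have e : frac a (y + z) (n + 1) = frac a y (n + 1) + frac a z (n + 1) := by
        simp only [frac, IsLocalization.mk'_eq_mul_mk'_one (_ + _), map_add, add_mul,
          ← IsLocalization.mk'_eq_mul_mk'_one]
      rw [e]
      exact add_mem hy hz

theorem isChart_affineAlgebra {I : Ideal A} {a : A} (ha : a ∈ I) :
    IsChart I a (algebraMap A (BlowUp.affineAlgebra A I a)) := by
  have hu : IsUnit (algebraMap A (Localization.Away a) a) := IsLocalization.Away.algebraMap_isUnit a
  refine ⟨mem_nonZeroDivisors_iff_right.mpr fun z hz => ?_, ?_, ?_⟩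
  · have : (z : Localization.Away a) * algebraMap A (Localization.Away a) a = 0 :=
      congrArg Subtype.val hz
    exact Subtype.ext (hu.mul_left_eq_zero.mp this)
  · refine le_antisymm ?_ ((Ideal.span_singleton_le_iff_mem _).mpr (Ideal.mem_map_of_mem _ ha))
    rw [Ideal.map_le_iff_le_comap]
    intro x hx
    rw [Ideal.mem_comap, Ideal.mem_span_singleton]
    refine ⟨⟨_, Algebra.subset_adjoin ⟨x, hx, rfl⟩⟩, Subtype.ext ?_⟩
    change algebraMap A (Localization.Away a) x = algebraMap A (Localization.Away a) a * _
    exact (IsLocalization.mk'_spec' _ _ _).symm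
  intro B _ φ hnz hI
  let L' := Localization.Away (φ a)
  let Φ : Localization.Away a →+* L' := IsLocalization.Away.map (Localization.Away a) L' φ a
  have hΦ : ∀ r, Φ (algebraMap A _ r) = algebraMap B L' (φ r) := fun r =>
    IsLocalization.map_eq _ _
  have hinj : Function.Injective (algebraMap B L') :=
    IsLocalization.injective L' (Submonoid.powers_le.mpr hnz)
  have hu' : IsUnit (algebraMap B L' (φ a)) := IsLocalization.Away.algebraMap_isUnit _
  have hmem : ∀ c ∈ BlowUp.affineAlgebra A I a, Φ c ∈ (algebraMap B L').range := by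
    intro c hc
    induction hc using Algebra.adjoin_induction with
    | mem c hc =>
      obtain ⟨x, hx, rfl⟩ := hc
      obtain ⟨b, hb⟩ := Ideal.mem_span_singleton.mp (hI ▸ Ideal.mem_map_of_mem φ hx)
      refine ⟨b, hu'.mul_left_cancel ?_⟩
      rw [← map_mul, ← hb, ← hΦ x, ← hΦ a, ← map_mul]
      exact congrArg Φ (IsLocalization.mk'_spec' _ _ _).symm
    | algebraMap r => exact ⟨φ r, (hΦ r).symm⟩
    | add x y _ _ hx hy => rw [map_add]; exact add_mem hx hy
    | mul x y _ _ hx hy => rw [map_mul]; exact mul_mem hx hy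
  let e : B ≃+* (algebraMap B L').range := RingEquiv.ofBijective (algebraMap B L').rangeRestrict
    ⟨fun x y h => hinj (congrArg Subtype.val h), RingHom.rangeRestrict_surjective _⟩
  let ψ : BlowUp.affineAlgebra A I a →+* B := (e.symm : _ →+* B).comp
    ((Φ.comp (BlowUp.affineAlgebra A I a).val.toRingHom).codRestrict (algebraMap B L').range
      fun c => hmem c.1 c.2)
  have hψ : ∀ c, algebraMap B L' (ψ c) = Φ c.1 := fun c =>
    congrArg Subtype.val (e.apply_symm_apply _)
  refine ⟨ψ, RingHom.ext fun r => hinj ((hψ _).trans (hΦ r)), fun χ hχ => ?_⟩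
  refine RingHom.ext fun ⟨c, hc⟩ => hinj ?_
  rw [hψ]
  induction hc using Algebra.adjoin_induction with
  | mem c hc =>
    obtain ⟨x, hx, rfl⟩ := hc
    refine hu'.mul_left_cancel ?_
    let q : BlowUp.affineAlgebra A I a := ⟨_, Algebra.subset_adjoin ⟨x, hx, rfl⟩⟩
    have hq : algebraMap A _ a * q = algebraMap A (BlowUp.affineAlgebra A I a) x := by
      refine Subtype.ext ?_
      change algebraMap A (Localization.Away a) a * _ = algebraMap A (Localization.Away a) x
      exact IsLocalization.mk'_spec' (Localization.Away a) x (⟨a, Submonoid.mem_powers a⟩ : Submonoid.powers a)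
    have h3 := congrArg χ hq
    rw [map_mul] at h3
    rw [show χ (algebraMap A _ a) = φ a from RingHom.congr_fun hχ a,
      show χ (algebraMap A _ x) = φ x from RingHom.congr_fun hχ x] at h3
    rw [← map_mul, h3, ← hΦ x, ← hΦ a, ← map_mul]
    exact congrArg Φ (IsLocalization.mk'_spec' _ _ _).symm
  | algebraMap r =>
    rw [hΦ]
    exact congrArg _ (RingHom.congr_fun hχ r)
  | add x y hx hy ihx ihy =>
    rw [map_add, ← ihx, ← ihy, ← map_add, ← map_add]
    rfl
  | mul x y hx hy ihx ihy =>
    rw [map_mul, ← ihx, ← ihy, ← map_mul, ← map_mul]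
    rfl

end affineAlgebra

section Rees

variable (I : Ideal A)

open Polynomial

/-- `a X` in the Rees algebra. -/
noncomputable def degOne (a : A) (ha : a ∈ I) : reesAlgebra I :=
  ⟨monomial 1 a, reesAlgebra.monomial_mem.mpr (by rwa [pow_one])⟩

theorem degOne_mem (a : A) (ha : a ∈ I) : degOne I a ha ∈ Rees.deg (reesAlgebra I) 1 := fun m hm => by
  change (monomial 1 a).coeff m = 0
  rw [coeff_monomial]
  exact if_neg fun h => hm h.symm

theorem eq_monomial {n : ℕ} {s : reesAlgebra I} (hs : s ∈ Rees.deg (reesAlgebra I) n) :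
    (s : A[X]) = monomial n ((s : A[X]).coeff n) := by
  ext m
  rw [coeff_monomial]
  split_ifs with h
  · rw [h]
  · exact hs m (Ne.symm h)

/-- Evaluation at `1`. -/
noncomputable def ev : reesAlgebra I →+* A :=
  (Polynomial.evalRingHom 1).comp (reesAlgebra I).subtype

theorem ev_eq {n : ℕ} {s : reesAlgebra I} (hs : s ∈ Rees.deg (reesAlgebra I) n) :
    ev I s = (s : A[X]).coeff n := by
  conv_lhs => rw [show ev I s = Polynomial.eval 1 (s : A[X]) from rfl, eq_monomial I hs]
  simp

theorem ev_degOne (a : A) (ha : a ∈ I) : ev I (degOne I a ha) = a := by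
  rw [ev_eq I (degOne_mem I a ha)]
  exact coeff_monomial_same _ _

variable (a : A) (ha : a ∈ I)

/-- The comparison `(Rees I)_(aX) → A_a`. -/
noncomputable def toLoc :
    HomogeneousLocalization.Away (Rees.deg (reesAlgebra I)) (degOne I a ha) →+* Localization.Away a :=
  (IsLocalization.map (M := Submonoid.powers (degOne I a ha)) (T := Submonoid.powers a)
      (Localization.Away a) (ev I) (by
        rintro _ ⟨n, rfl⟩
        exact ⟨n, by simp [ev_degOne]⟩) :
      Localization.Away (degOne I a ha) →+* Localization.Away a).comp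
    (algebraMap (HomogeneousLocalization.Away (Rees.deg (reesAlgebra I)) (degOne I a ha))
      (Localization.Away (degOne I a ha)))

theorem toLoc_mk (n : ℕ) (s : reesAlgebra I) (hs : s ∈ Rees.deg (reesAlgebra I) (n • 1)) :
    toLoc I a ha (HomogeneousLocalization.Away.mk _ (degOne_mem I a ha) n s hs) =
      frac a ((s : A[X]).coeff n) n := by
  rw [toLoc, RingHom.comp_apply, HomogeneousLocalization.algebraMap_apply,
    HomogeneousLocalization.Away.val_mk, Localization.mk_eq_mk', IsLocalization.map_mk']
  have hn : n • 1 = n := by simp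
  have hev := ev_eq I (hn ▸ hs : s ∈ Rees.deg (reesAlgebra I) n)
  simp only [frac, hev]
  congr 1
  exact Subtype.ext (by simp [ev_degOne])

theorem toLoc_injective : Function.Injective (toLoc I a ha) := by
  rw [injective_iff_map_eq_zero]
  intro z hz
  obtain ⟨n, s, hs, rfl⟩ := HomogeneousLocalization.Away.mk_surjective _ (degOne_mem I a ha) z
  rw [toLoc_mk, frac, IsLocalization.mk'_eq_zero_iff] at hz
  obtain ⟨⟨_, m, rfl⟩, hm⟩ := hz
  apply HomogeneousLocalization.val_injective
  rw [HomogeneousLocalization.Away.val_mk, HomogeneousLocalization.val_zero, Localization.mk_eq_mk',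
    IsLocalization.mk'_eq_zero_iff]
  refine ⟨⟨_, m, rfl⟩, Subtype.ext ?_⟩
  have hn : n • 1 = n := by simp
  change (monomial 1 a : A[X]) ^ m * (s : A[X]) = 0
  rw [eq_monomial I (hn ▸ hs : s ∈ Rees.deg (reesAlgebra I) n), monomial_pow, monomial_mul_monomial]
  change a ^ m * _ = 0 at hm
  rw [hm]
  simp

theorem toLoc_mem (z) : toLoc I a ha z ∈ BlowUp.affineAlgebra A I a := by
  obtain ⟨n, s, hs, rfl⟩ := HomogeneousLocalization.Away.mk_surjective _ (degOne_mem I a ha) z
  rw [toLoc_mk]
  exact frac_mem I a (s.2 n)

/-- The structure map `A → (Rees I)_(aX)`. -/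
noncomputable abbrev awayAlg :
    A →+* HomogeneousLocalization.Away (Rees.deg (reesAlgebra I)) (degOne I a ha) :=
  (HomogeneousLocalization.fromZeroRingHom (Rees.deg (reesAlgebra I)) _).comp
    (algebraMap A (Rees.deg (reesAlgebra I) 0))

theorem toLoc_awayAlg (r : A) : toLoc I a ha (awayAlg I a ha r) = algebraMap A _ r := by
  change toLoc I a ha (HomogeneousLocalization.mk
    ⟨0, algebraMap A (Rees.deg (reesAlgebra I) 0) r, ⟨1, SetLike.GradedOne.one_mem⟩, one_mem _⟩) = _
  rw [toLoc, RingHom.comp_apply, HomogeneousLocalization.algebraMap_apply,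
    HomogeneousLocalization.val_mk, Localization.mk_eq_mk', IsLocalization.map_mk']
  simp only [map_one]
  refine Eq.trans ?_ (IsLocalization.mk'_one (M := Submonoid.powers a) (Localization.Away a) r)
  congr 1
  simp [ev]

/-- `(Rees I)_(aX) ≅ A[I/a]`. -/
noncomputable def awayEquiv :
    HomogeneousLocalization.Away (Rees.deg (reesAlgebra I)) (degOne I a ha) ≃+*
      BlowUp.affineAlgebra A I a :=
  RingEquiv.ofBijective ((toLoc I a ha).codRestrict (BlowUp.affineAlgebra A I a) (toLoc_mem I a ha))
    ⟨fun x y h => toLoc_injective I a ha (congrArg Subtype.val h), by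
      rintro ⟨c, hc⟩
      have h : c ∈ Set.range (toLoc I a ha) := by
        induction hc using Algebra.adjoin_induction with
        | mem c hc =>
          obtain ⟨x, hx, rfl⟩ := hc
          refine ⟨HomogeneousLocalization.Away.mk _ (degOne_mem I a ha) 1 (degOne I x hx)
            (by simpa using degOne_mem I x hx), ?_⟩
          rw [toLoc_mk, frac]
          congr 1
          · exact coeff_monomial_same _ _
          · exact Subtype.ext (pow_one a)
        | algebraMap r => exact ⟨_, toLoc_awayAlg I a ha r⟩
        | add x y _ _ hx hy =>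
          obtain ⟨x, rfl⟩ := hx
          obtain ⟨y, rfl⟩ := hy
          exact ⟨x + y, map_add _ _ _⟩
        | mul x y _ _ hx hy =>
          obtain ⟨x, rfl⟩ := hx
          obtain ⟨y, rfl⟩ := hy
          exact ⟨x * y, map_mul _ _ _⟩
      obtain ⟨z, hz⟩ := h
      exact ⟨z, Subtype.ext hz⟩⟩

theorem awayEquiv_comp :
    (awayEquiv I a ha : _ →+* _).comp (awayAlg I a ha) = algebraMap A (BlowUp.affineAlgebra A I a) :=
  RingHom.ext fun r => Subtype.ext (toLoc_awayAlg I a ha r)

theorem isChart_awayAlg : IsChart I a (awayAlg I a ha) :=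
  (isChart_affineAlgebra ha).of_ringEquiv (awayEquiv I a ha).symm (by
    rw [← awayEquiv_comp I a ha, ← RingHom.comp_assoc, RingEquiv.symm_comp, RingHom.id_comp])

end Rees

end BlowUpLib
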