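import Groth.Agent.BlowUpLib.Cartier
import Groth.Agent.BlowUpLib.Chart
import Groth.Prelude.Def_ega3
import Mathlib.AlgebraicGeometry.ProjectiveSpectrum.Basic

/-!
# The blowing up of an affine scheme: universal property from charts; `Proj` of the Rees algebra
-/

set_option autoImplicit false

universe u

open CategoryTheory CategoryTheory.Limits AlgebraicGeometry TopologicalSpace

namespace BlowUpLib

variable {A : Type u} [CommRing A] (I : Ideal A)

/-- A principal invertible `I B` is, near each prime, generated by the image of an element of `I`. -/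
theorem exists_gen {B : Type u} [CommRing B] (φ : A →+* B) {t : B} (ht : t ∈ nonZeroDivisors B)
    (hI : I.map φ = Ideal.span {t}) (q : Ideal B) [hq : q.IsPrime] :
    ∃ a ∈ I, ∃ u ∉ q, φ a = t * u := by
  by_contra hne
  simp only [not_exists, not_and] at hne
  have hle : I.map φ ≤ Ideal.span {t} * q := by
    refine Ideal.map_le_iff_le_comap.mpr fun a ha => ?_
    obtain ⟨u, hu⟩ := Ideal.mem_span_singleton.mp (hI ▸ Ideal.mem_map_of_mem φ ha)
    have huq : u ∈ q := by
      by_contra h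
      exact hne a ha u h hu
    rw [Ideal.mem_comap, hu]
    exact Ideal.mul_mem_mul (Ideal.mem_span_singleton_self t) huq
  obtain ⟨w, hw, hwt⟩ := Ideal.mem_span_singleton_mul.mp (hle (hI ▸ Ideal.mem_span_singleton_self t))
  have : (1 - w) * t = 0 := by linear_combination -hwt
  have h1 := mem_nonZeroDivisors_iff_right.mp ht _ this
  exact hq.ne_top ((Ideal.eq_top_iff_one q).mpr (by rwa [sub_eq_zero.mp h1]))

variable {X' : Scheme.{u}} {b : X' ⟶ Spec (CommRingCat.of A)}

/-- An affine chart of a scheme over `Spec A` on which `I` becomes principal invertible, generated by an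
element of `I`. -/
theorem exists_gen_chart {Y : Scheme.{u}} (g : Y ⟶ Spec (CommRingCat.of A))
    (hg : BlowUp.IsEffCartierIdeal ((specIdeal I).comap g)) (y : Y) :
    ∃ (B : Type u) (_ : CommRing B) (j : Spec (CommRingCat.of B) ⟶ Y) (_ : IsOpenImmersion j)
      (φ : A →+* B) (a : I), y ∈ Set.range j ∧ j ≫ g = Spec.map (CommRingCat.ofHom φ) ∧
        φ a.1 ∈ nonZeroDivisors B ∧ I.map φ = Ideal.span {φ a.1} := by
  obtain ⟨B, _, j, _, t, ht, ⟨q, rfl⟩, hj⟩ := exists_spec_chart hg y
  obtain ⟨φ, hφ⟩ : ∃ φ : A →+* B, Spec.map (CommRingCat.ofHom φ) = j ≫ g :=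
    ⟨(Spec.preimage (j ≫ g)).hom, Spec.map_preimage _⟩
  rw [← Scheme.IdealSheafData.comap_comp, ← hφ, comap_specIdeal] at hj
  have hI : I.map φ = Ideal.span {t} := specIdeal_injective hj
  obtain ⟨a, ha, u, hu, hau⟩ := exists_gen I φ ht hI q.asIdeal
  let g' := algebraMap B (Localization.Away u)
  have hgu : IsUnit (g' u) := IsLocalization.Away.algebraMap_isUnit u
  have hg't : g' t ∈ nonZeroDivisors (Localization.Away u) :=
    nzd_of_flat g' (RingHom.flat_algebraMap_iff.mpr (IsLocalization.flat _ (Submonoid.powers u))) ht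
  refine ⟨Localization.Away u, inferInstance, Spec.map (CommRingCat.ofHom g') ≫ j, inferInstance,
    g'.comp φ, ⟨a, ha⟩, ?_, ?_, ?_, ?_⟩
  · rw [Scheme.Hom.comp_base, TopCat.coe_comp, Set.range_comp]
    refine ⟨q, ?_, rfl⟩
    exact (PrimeSpectrum.localization_away_comap_range (Localization.Away u) u).symm ▸ hu
  · rw [Category.assoc, ← hφ, ← Spec.map_comp]
    rfl
  · change g' (φ a) ∈ _
    rw [hau, map_mul]
    exact mul_mem hg't hgu.mem_nonZeroDivisors
  · rw [← Ideal.map_map, hI, Ideal.map_span, Set.image_singleton]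
    change _ = Ideal.span {g' (φ a)}
    rw [hau, map_mul, Ideal.span_singleton_mul_right_unit hgu]

variable (C : I → Type u) [∀ a, CommRing (C a)] {ι : ∀ a, A →+* C a}
  (c : ∀ a, Spec (CommRingCat.of (C a)) ⟶ X') [∀ a, IsOpenImmersion (c a)]

theorem range_subset (hC : ∀ a : I, IsChart I a.1 (ι a))
    (hb : ∀ a, c a ≫ b = Spec.map (CommRingCat.ofHom (ι a)))
    (hcov : ∀ x, ∃ a, x ∈ Set.range (c a))
    (hov : ∀ (a a' : I) (q : Spec (CommRingCat.of (C a'))) (s : C a'),
      ι a' a.1 = s * ι a' a'.1 → s ∉ q.asIdeal → c a' q ∈ Set.range (c a))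
    {B : Type u} [CommRing B] (φ : A →+* B) (a : I) (ha : φ a.1 ∈ nonZeroDivisors B)
    (hI : I.map φ = Ideal.span {φ a.1}) (k : Spec (CommRingCat.of B) ⟶ X')
    (hk : k ≫ b = Spec.map (CommRingCat.ofHom φ)) : Set.range k ⊆ Set.range (c a) := by
  rintro _ ⟨q, rfl⟩
  obtain ⟨a', ha'⟩ := hcov (k q)
  obtain ⟨_, ⟨f, rfl⟩, hqf, hfV⟩ := PrimeSpectrum.isTopologicalBasis_basic_opens.exists_subset_of_mem_open
    (show q ∈ k ⁻¹' Set.range (c a') from ha') ((c a').isOpenEmbedding.isOpen_range.preimage k.continuous)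
  let g' := algebraMap B (Localization.Away f)
  let k' := Spec.map (CommRingCat.ofHom g') ≫ k
  have hk' : Set.range k' ⊆ Set.range (c a') := by
    rintro _ ⟨z, rfl⟩
    exact hfV ((PrimeSpectrum.localization_away_comap_range (Localization.Away f) f).subset ⟨z, rfl⟩)
  obtain ⟨χ, hχ⟩ : ∃ χ : C a' →+* Localization.Away f,
      Spec.map (CommRingCat.ofHom χ) = IsOpenImmersion.lift (c a') k' hk' :=
    ⟨(Spec.preimage (IsOpenImmersion.lift (c a') k' hk')).hom, Spec.map_preimage _⟩
  have hcomp : χ.comp (ι a') = g'.comp φ := by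
    have : Spec.map (CommRingCat.ofHom (χ.comp (ι a'))) = Spec.map (CommRingCat.ofHom (g'.comp φ)) := by
      rw [CommRingCat.ofHom_comp, CommRingCat.ofHom_comp, Spec.map_comp, Spec.map_comp, hχ, ← hb,
        ← hk, ← Category.assoc, IsOpenImmersion.lift_fac, Category.assoc]
    exact congrArg CommRingCat.Hom.hom (Spec.map_injective this)
  obtain ⟨s, hs⟩ := Ideal.mem_span_singleton'.mp ((hC a').span ▸ Ideal.mem_map_of_mem (ι a') a.2)
  obtain ⟨w, hw⟩ := Ideal.mem_span_singleton'.mp (hI ▸ Ideal.mem_map_of_mem φ a'.2)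
  have hnz : g' (φ a.1) ∈ nonZeroDivisors (Localization.Away f) :=
    nzd_of_flat g' (RingHom.flat_algebraMap_iff.mpr (IsLocalization.flat _ (Submonoid.powers f))) ha
  have hunit : IsUnit (χ s) := by
    refine .of_mul_eq_one (g' w) ?_
    have e1 : g' (φ a.1) = χ s * g' (φ a'.1) := by
      have := congrArg χ hs.symm
      rw [map_mul] at this
      rwa [show χ (ι a' a.1) = g' (φ a.1) from RingHom.congr_fun hcomp _,
        show χ (ι a' a'.1) = g' (φ a'.1) from RingHom.congr_fun hcomp _] at this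
    rw [← hw, map_mul] at e1
    have : (1 - χ s * g' w) * g' (φ a.1) = 0 := by linear_combination e1
    exact (sub_eq_zero.mp (mem_nonZeroDivisors_iff_right.mp hnz _ this)).symm
  obtain ⟨z, hz⟩ := (PrimeSpectrum.localization_away_comap_range (Localization.Away f) f).symm.subset hqf
  have hz' : k' z = k q := congrArg k hz
  have h1 : c a' ((Spec.map (CommRingCat.ofHom χ)) z) = k q := by
    rw [← Scheme.Hom.comp_apply, hχ, IsOpenImmersion.lift_fac, hz']
  rw [← h1]
  exact hov a a' _ s hs.symm fun hmem => z.2.ne_top (Ideal.eq_top_of_isUnit_mem _ hmem hunit)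

include c in
/-- A morphism from an affine scheme on which `I` is generated by `φ a` is the one given by the `a`-chart. -/
theorem eq_lift (hC : ∀ a : I, IsChart I a.1 (ι a))
    (hb : ∀ a, c a ≫ b = Spec.map (CommRingCat.ofHom (ι a)))
    (hcov : ∀ x, ∃ a, x ∈ Set.range (c a))
    (hov : ∀ (a a' : I) (q : Spec (CommRingCat.of (C a'))) (s : C a'),
      ι a' a.1 = s * ι a' a'.1 → s ∉ q.asIdeal → c a' q ∈ Set.range (c a))
    {B : Type u} [CommRing B] (φ : A →+* B) (a : I) (ha : φ a.1 ∈ nonZeroDivisors B)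
    (hI : I.map φ = Ideal.span {φ a.1}) (ψ : C a →+* B) (hψ : ψ.comp (ι a) = φ)
    (k : Spec (CommRingCat.of B) ⟶ X') (hk : k ≫ b = Spec.map (CommRingCat.ofHom φ)) :
    k = Spec.map (CommRingCat.ofHom ψ) ≫ c a := by
  have hr := range_subset I C c hC hb hcov hov φ a ha hI k hk
  obtain ⟨χ, hχ⟩ : ∃ χ : C a →+* B, Spec.map (CommRingCat.ofHom χ) = IsOpenImmersion.lift _ k hr :=
    ⟨(Spec.preimage (IsOpenImmersion.lift _ k hr)).hom, Spec.map_preimage _⟩
  have e : Spec.map (CommRingCat.ofHom (χ.comp (ι a))) = Spec.map (CommRingCat.ofHom φ) := by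
    rw [CommRingCat.ofHom_comp, Spec.map_comp, hχ, ← hb, ← Category.assoc, IsOpenImmersion.lift_fac, hk]
  have h2 : χ = ψ :=
    ((hC a).lift B φ ha hI).unique (congrArg CommRingCat.Hom.hom (Spec.map_injective e)) hψ
  rw [← h2, hχ, IsOpenImmersion.lift_fac]

/-- Two morphisms to a charted blow-up agree if they agree over `Spec A`. -/
theorem hom_ext_of_charts (hC : ∀ a : I, IsChart I a.1 (ι a))
    (hb : ∀ a, c a ≫ b = Spec.map (CommRingCat.ofHom (ι a)))
    (hcov : ∀ x, ∃ a, x ∈ Set.range (c a))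
    (hov : ∀ (a a' : I) (q : Spec (CommRingCat.of (C a'))) (s : C a'),
      ι a' a.1 = s * ι a' a'.1 → s ∉ q.asIdeal → c a' q ∈ Set.range (c a))
    {Z : Scheme.{u}} (g : Z ⟶ Spec (CommRingCat.of A))
    (hg : BlowUp.IsEffCartierIdeal ((specIdeal I).comap g)) (k k' : Z ⟶ X') (hk : k ≫ b = g)
    (hk' : k' ≫ b = g) : k = k' := by
  choose B hB j hj φ a hy hjg hnz hI using exists_gen_chart I g hg
  refine Scheme.Cover.hom_ext (Scheme.Cover.mkOfCovers Z (fun z => Spec (CommRingCat.of (B z))) j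
    (fun z => ⟨z, hy z⟩) hj : Z.OpenCover) _ _ fun (z : Z) => ?_
  obtain ⟨ψ, hψ, -⟩ := (hC (a z)).lift (B z) (φ z) (hnz z) (hI z)
  have e1 := eq_lift I C c hC hb hcov hov (φ z) (a z) (hnz z) (hI z) ψ hψ (j z ≫ k)
    (by rw [Category.assoc, hk, hjg])
  have e2 := eq_lift I C c hC hb hcov hov (φ z) (a z) (hnz z) (hI z) ψ hψ (j z ≫ k')
    (by rw [Category.assoc, hk', hjg])
  exact e1.trans e2.symm

/-- A scheme over `Spec A` covered by the charts `A[I/a]`, glued in the standard way, is the blowing up. -/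
theorem isBlowUp_of_charts (hC : ∀ a : I, IsChart I a.1 (ι a))
    (hb : ∀ a, c a ≫ b = Spec.map (CommRingCat.ofHom (ι a)))
    (hcov : ∀ x, ∃ a, x ∈ Set.range (c a))
    (hov : ∀ (a a' : I) (q : Spec (CommRingCat.of (C a'))) (s : C a'),
      ι a' a.1 = s * ι a' a'.1 → s ∉ q.asIdeal → c a' q ∈ Set.range (c a)) :
    BlowUp.IsBlowUp b (specIdeal I) := by
  refine ⟨isEffCartier_of_cover fun x => ?_, fun Y g hg => ?_⟩
  · obtain ⟨a, hx⟩ := hcov x
    refine ⟨_, c a, inferInstance, hx, ?_⟩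
    rw [← Scheme.IdealSheafData.comap_comp, hb, comap_specIdeal, (hC a).span]
    exact isEffCartier_specIdeal (hC a).nzd
  choose B hB j hj φ a hy hjg hnz hI using exists_gen_chart I g hg
  choose ψ hψ hψu using fun y => (hC (a y)).lift (B y) (φ y) (hnz y) (hI y)
  let f : ∀ y : Y, Spec (CommRingCat.of (B y)) ⟶ X' := fun y =>
    Spec.map (CommRingCat.ofHom (ψ y)) ≫ c (a y)
  have hf : ∀ y, f y ≫ b = j y ≫ g := fun y => by
    rw [Category.assoc, hb, ← Spec.map_comp, ← CommRingCat.ofHom_comp, hψ, hjg]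
  let 𝒰 : Y.OpenCover := Scheme.Cover.mkOfCovers Y (fun y => Spec (CommRingCat.of (B y))) j
    (fun y => ⟨y, hy y⟩) hj
  have hglue : ∀ y y' : Y, pullback.fst (j y) (j y') ≫ f y = pullback.snd (j y) (j y') ≫ f y' := by
    intro y y'
    have := hj y
    have := hj y'
    refine hom_ext_of_charts I C c hC hb hcov hov (pullback.fst (j y) (j y') ≫ j y ≫ g) ?_ _ _
      (by rw [Category.assoc, hf]) ?_
    · rw [← Category.assoc, Scheme.IdealSheafData.comap_comp]
      exact isEffCartier_comap_of_flat _ hg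
    · rw [Category.assoc, hf, ← Category.assoc, ← pullback.condition, Category.assoc]
  refine ⟨𝒰.glueMorphisms f hglue, ?_, fun h hh => ?_⟩
  · refine Scheme.Cover.hom_ext 𝒰 _ _ fun (y : Y) => ?_
    rw [← Category.assoc, Scheme.Cover.ι_glueMorphisms]
    exact hf y
  · refine hom_ext_of_charts I C c hC hb hcov hov g hg _ _ hh ?_
    refine Scheme.Cover.hom_ext 𝒰 _ _ fun (y : Y) => ?_
    rw [← Category.assoc, Scheme.Cover.ι_glueMorphisms]
    exact hf y

section Proj

open HomogeneousLocalization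

theorem monomial_mem_of_degOne_mem (J : Ideal (reesAlgebra I))
    (h : ∀ a (ha : a ∈ I), degOne I a ha ∈ J) (n : ℕ) {r : A} (hr : r ∈ I ^ (n + 1)) :
    ∃ hm : Polynomial.monomial (n + 1) r ∈ reesAlgebra I, (⟨_, hm⟩ : reesAlgebra I) ∈ J := by
  rw [pow_succ'] at hr
  refine Submodule.mul_induction_on hr (fun a ha r hr => ?_) fun r₁ r₂ h₁ h₂ => ?_
  · have e : Polynomial.monomial (n + 1) (a * r) =
        ((degOne I a ha * ⟨Polynomial.monomial n r, reesAlgebra.monomial_mem.mpr hr⟩ : reesAlgebra I) :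
          Polynomial A) := by
      simp [degOne, Polynomial.monomial_mul_monomial, add_comm]
    refine ⟨e ▸ Subtype.coe_prop _, ?_⟩
    convert Ideal.mul_mem_right (⟨Polynomial.monomial n r, reesAlgebra.monomial_mem.mpr hr⟩ : reesAlgebra I) J
      (h a ha) using 1
    exact Subtype.ext e
  · obtain ⟨m₁, h₁⟩ := h₁
    obtain ⟨m₂, h₂⟩ := h₂
    refine ⟨map_add (Polynomial.monomial (n + 1)) r₁ r₂ ▸ add_mem m₁ m₂, ?_⟩
    convert Ideal.add_mem J h₁ h₂ using 1
    exact Subtype.ext (map_add _ _ _)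

theorem exists_degOne_notMem (x : Proj (Rees.deg (reesAlgebra I))) :
    ∃ a : I, x ∈ Proj.basicOpen (Rees.deg (reesAlgebra I)) (degOne I a.1 a.2) := by
  classical
  by_contra hx
  simp only [not_exists, Proj.mem_basicOpen, not_not] at hx
  refine x.not_irrelevant_le fun f hf => ?_
  rw [← DirectSum.sum_support_decompose (Rees.deg (reesAlgebra I)) f]
  refine Ideal.sum_mem _ fun n _ => ?_
  rcases n with - | n
  · have h0 : GradedRing.proj (Rees.deg (reesAlgebra I)) 0 f = 0 :=
      (HomogeneousIdeal.mem_irrelevant_iff _ _).mp hf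
    rw [GradedRing.proj_apply] at h0
    rw [h0]
    exact Ideal.zero_mem _
  · generalize (DirectSum.decompose (Rees.deg (reesAlgebra I)) f (n + 1)) = g
    obtain ⟨g, hg⟩ := g
    obtain ⟨hm, hmem⟩ := monomial_mem_of_degOne_mem I x.asHomogeneousIdeal.toIdeal
      (fun a ha => hx ⟨a, ha⟩) n (g.2 (n + 1))
    convert hmem using 1
    exact Subtype.ext (eq_monomial I hg)

theorem awayAlg_eq_mul_elem {a a' : A} (ha : a ∈ I) (ha' : a' ∈ I) :
    awayAlg I a' ha' a =
      Away.isLocalizationElem (degOne_mem I a' ha') (degOne_mem I a ha) * awayAlg I a' ha' a' := by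
  apply toLoc_injective I a' ha'
  rw [map_mul, toLoc_awayAlg, toLoc_awayAlg]
  erw [toLoc_mk]
  simp only [pow_one, degOne, Polynomial.coeff_monomial_same, frac]
  exact (IsLocalization.mk'_spec (Localization.Away a') a
    (⟨a' ^ 1, 1, rfl⟩ : Submonoid.powers a')).symm.trans (by simp)

theorem eq_of_mul_eq {R : Type u} [CommRing R] {n s t x : R} (hn : n ∈ nonZeroDivisors R)
    (h1 : x = s * n) (h2 : x = t * n) : s = t :=
  sub_eq_zero.mp (mem_nonZeroDivisors_iff_right.mp hn _ (by rw [sub_mul, ← h1, ← h2, sub_self]))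

theorem eq_elem {a a' : A} (ha : a ∈ I) (ha' : a' ∈ I)
    {s : Away (Rees.deg (reesAlgebra I)) (degOne I a' ha')}
    (hs : awayAlg I a' ha' a = s * awayAlg I a' ha' a') :
    s = Away.isLocalizationElem (degOne_mem I a' ha') (degOne_mem I a ha) :=
  eq_of_mul_eq (x := awayAlg I a' ha' a) (n := awayAlg I a' ha' a')
    (isChart_awayAlg I a' ha').nzd hs (awayAlg_eq_mul_elem I ha ha')

/-- `Proj` of the Rees algebra is the blowing up. -/
theorem isBlowUp_proj :
    BlowUp.IsBlowUp (Proj (Rees.deg (reesAlgebra I)) ↘ Spec (CommRingCat.of A)) (specIdeal I) := by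
  refine isBlowUp_of_charts I _ (fun a : I => Proj.awayι _ _ (degOne_mem I a.1 a.2) one_pos)
    (ι := fun a => awayAlg I a.1 a.2) (fun a => isChart_awayAlg I a.1 a.2)
    (fun a => ?_) (fun x => ?_) fun a a' q s hs hq => ?_
  · change _ ≫ Proj.toSpecZero _ ≫ Spec.map _ = _
    rw [← Category.assoc, Proj.awayι_toSpecZero, ← Spec.map_comp]
    rfl
  · obtain ⟨a, ha⟩ := exists_degOne_notMem I x
    rw [← Proj.opensRange_awayι _ _ (degOne_mem I a.1 a.2) one_pos] at ha
    exact ⟨a, ha⟩
  · have hmem : Proj.awayι _ _ (degOne_mem I a'.1 a'.2) one_pos q ∈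
        Proj.basicOpen (Rees.deg (reesAlgebra I)) (degOne I a.1 a.2) := by
      have h2 : q ∈ Proj.awayι _ _ (degOne_mem I a'.1 a'.2) one_pos ⁻¹ᵁ
          Proj.basicOpen (Rees.deg (reesAlgebra I)) (degOne I a.1 a.2) := by
        rw [Proj.awayι_preimage_basicOpen _ (degOne_mem I a'.1 a'.2) one_pos (degOne_mem I a.1 a.2) one_pos,
          ← eq_elem I a.2 a'.2 hs]
        exact hq
      exact h2
    rw [← Proj.opensRange_awayι _ _ (degOne_mem I a.1 a.2) one_pos] at hmem
    exact hmem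

end Proj

end BlowUpLib
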