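import Mathlib
import Groth.Prelude.Def_BlowUp2
import Groth.Agent.BlowUpLib.Props
import Groth.Agent.BlowUpLib.Univ
import Groth.Agent.QReg16Lib.Basic

/-!
# The exceptional divisor in the charts of a blow-up along a quasi-regular sequence
-/

set_option autoImplicit false
universe u

open MvPolynomial

namespace BlowUpLib

variable {A : Type u} [CommRing A] {r : ℕ} (f : Fin r → A) (i : Fin r)

local notation "I" => Ideal.span (Set.range f)
local notation "L" => Localization.Away (f i)
local notation "C'" => BlowUp.affineAlgebra A (Ideal.span (Set.range f)) (f i)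

theorem exists_frac_of_mem {J : Ideal A} {a : A} (ha : a ∈ J) {c : Localization.Away a}
    (hc : c ∈ BlowUp.affineAlgebra A J a) :
    ∃ m : ℕ, ∃ x ∈ J ^ m, c * algebraMap A (Localization.Away a) a ^ m = algebraMap A (Localization.Away a) x := by
  induction hc using Algebra.adjoin_induction with
  | mem c hc =>
    obtain ⟨x, hx, rfl⟩ := hc
    exact ⟨1, x, by rwa [pow_one], by rw [pow_one]; exact IsLocalization.mk'_spec _ x _⟩
  | algebraMap x => exact ⟨0, x, by simp, by simp⟩
  | add c d _ _ hc hd =>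
    obtain ⟨m, x, hx, hc⟩ := hc
    obtain ⟨n, y, hy, hd⟩ := hd
    refine ⟨m + n, x * a ^ n + a ^ m * y, add_mem ?_ ?_, ?_⟩
    · rw [pow_add]; exact Ideal.mul_mem_mul hx (Ideal.pow_mem_pow ha n)
    · rw [pow_add]; exact Ideal.mul_mem_mul (Ideal.pow_mem_pow ha m) hy
    · rw [map_add, map_mul, map_mul, map_pow, map_pow, ← hc, ← hd, pow_add]; ring
  | mul c d _ _ hc hd =>
    obtain ⟨m, x, hx, hc⟩ := hc
    obtain ⟨n, y, hy, hd⟩ := hd
    exact ⟨m + n, x * y, by rw [pow_add]; exact Ideal.mul_mem_mul hx hy,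
      by rw [map_mul, ← hc, ← hd, pow_add]; ring⟩

/-- The fractions `f j / f i`. -/
noncomputable def chartVar (j : Fin r) : C' :=
  ⟨IsLocalization.mk' L (f j) ⟨f i, Submonoid.mem_powers (f i)⟩,
    Algebra.subset_adjoin ⟨f j, Ideal.subset_span ⟨j, rfl⟩, rfl⟩⟩

theorem chartVar_mul (j : Fin r) : chartVar f i j * algebraMap A C' (f i) = algebraMap A C' (f j) :=
  Subtype.ext (IsLocalization.mk'_spec L (f j) ⟨f i, Submonoid.mem_powers (f i)⟩)

theorem chartVar_self : chartVar f i i = 1 :=
  Subtype.ext (IsLocalization.mk'_self L (Submonoid.mem_powers (f i)))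

theorem aeval_chartVar_surjective :
    Function.Surjective (aeval (R := A) (fun j : {j // j ≠ i} => chartVar f i j.1)) := by
  classical
  rintro ⟨c, hc⟩
  set φ := aeval (R := A) (fun j : {j // j ≠ i} => chartVar f i j.1) with hφ
  suffices h : BlowUp.affineAlgebra A I (f i) ≤ φ.range.map (BlowUp.affineAlgebra A I (f i)).val by
    obtain ⟨_, ⟨P, rfl⟩, hd⟩ := h hc
    exact ⟨P, Subtype.ext hd⟩
  refine Algebra.adjoin_le ?_
  rintro _ ⟨x, hx, rfl⟩
  obtain ⟨cf, rfl⟩ := (Ideal.mem_span_range_iff_exists_fun (R := A)).mp hx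
  refine ⟨∑ j, algebraMap A C' (cf j) * chartVar f i j, ?_, ?_⟩
  · refine sum_mem fun j _ => mul_mem (Subalgebra.algebraMap_mem _ _) ?_
    by_cases hj : j = i
    · subst hj; rw [chartVar_self]; exact one_mem _
    · exact ⟨X ⟨j, hj⟩, aeval_X _ _⟩
  · rw [map_sum]
    apply (IsLocalization.Away.algebraMap_isUnit (S := L) (f i)).mul_right_cancel
    rw [Finset.sum_mul, IsLocalization.mk'_spec, map_sum]
    refine Finset.sum_congr rfl fun j _ => ?_
    rw [map_mul, mul_assoc, show (algebraMap A L) (cf j * f j) = algebraMap A L (cf j) * algebraMap A L (f j) from map_mul _ _ _]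
    exact congrArg (algebraMap A L (cf j) * ·) (congrArg Subtype.val (chartVar_mul f i j))

theorem coeff_mem_of_aeval_mem (hQR : Groth.Agent.QReg16Lib.QR f) (P : MvPolynomial {j // j ≠ i} A)
    (hP : aeval (fun j : {j // j ≠ i} => chartVar f i j.1) P ∈ Ideal.span {algebraMap A C' (f i)}) :
    ∀ s, P.coeff s ∈ I := by
  classical
  obtain ⟨⟨c, hc⟩, hcP⟩ := Ideal.mem_span_singleton.mp hP
  have hfi : f i ∈ I := Ideal.subset_span ⟨i, rfl⟩
  obtain ⟨m, x, hx, hcx⟩ := exists_frac_of_mem hfi hc
  let a := algebraMap A L (f i)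
  let d := P.totalDegree
  let e : ({j // j ≠ i} →₀ ℕ) → (Fin r →₀ ℕ) := fun s => s.mapDomain Subtype.val + Finsupp.single i (d - s.degree)
  have he : Function.Injective e := fun s t h => Finsupp.ext fun j => by
    have := DFunLike.congr_fun h j.1
    simpa [e, Finsupp.mapDomain_apply Subtype.val_injective, Finsupp.single_apply, Ne.symm j.2] using this
  let Q : MvPolynomial (Fin r) A := ∑ s ∈ P.support, monomial (e s) (P.coeff s)
  have hdeg : ∀ s ∈ P.support, (e s).degree = d := fun s hs => by
    have h1 : s.degree ≤ d := by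
      exact le_totalDegree hs
    rw [map_add, Finsupp.degree_single]
    have h2 : (s.mapDomain Subtype.val).degree = s.degree := Finsupp.degree_mapDomain _ _
    omega
  have hQh : Q.IsHomogeneous d := IsHomogeneous.sum _ _ _ fun s hs => isHomogeneous_monomial _ (hdeg s hs)
  have hev : algebraMap A L (eval f Q) = a ^ d * (aeval (fun j : {j // j ≠ i} => chartVar f i j.1) P : C').1 := by
    conv_rhs => rw [P.as_sum, map_sum, AddSubmonoidClass.coe_finsetSum, Finset.mul_sum]
    rw [map_sum, map_sum]
    refine Finset.sum_congr rfl fun s hs => ?_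
    rw [aeval_monomial, eval_monomial, map_mul, Subalgebra.coe_mul, Subalgebra.coe_algebraMap]
    have h1 : s.degree ≤ d := by
      exact le_totalDegree hs
    have hm : ∀ j, algebraMap A L (f j) = ((chartVar f i j : C') : L) * a := fun j =>
      (congrArg Subtype.val (chartVar_mul f i j)).symm
    rw [show (e s).prod (fun j k => f j ^ k) = (s.prod fun j k => f j.1 ^ k) * f i ^ (d - s.degree) by
      simp only [e]
      rw [Finsupp.prod_add_index' (fun _ => pow_zero _) (fun _ _ _ => pow_add _ _ _),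
        Finsupp.prod_mapDomain_index_inj Subtype.val_injective, Finsupp.prod_single_index (by exact pow_zero (f i))]]
    rw [map_mul, map_pow, map_finsuppProd]
    simp only [map_pow, hm, mul_pow, Finsupp.prod_mul, SubmonoidClass.coe_finset_prod, Finsupp.prod,
      Finset.prod_mul_distrib, Finset.prod_pow_eq_pow_sum, Subalgebra.coe_pow, chartVar_self, one_pow, one_mul]
    rw [show ∑ j ∈ s.support, s j = s.degree from rfl]
    rw [show a ^ d = a ^ s.degree * a ^ (d - s.degree) by rw [← pow_add, Nat.add_sub_cancel' h1]]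
    push_cast
    ring
  have hkey : algebraMap A L (eval f Q * f i ^ m) = algebraMap A L (f i ^ (d + 1) * x) := by
    rw [map_mul, map_mul, map_pow, map_pow, hev, hcP, ← hcx]
    show a ^ d * (a * c) * a ^ m = a ^ (d + 1) * (c * a ^ m)
    ring
  obtain ⟨⟨_, N, rfl⟩, hN⟩ := (IsLocalization.eq_iff_exists (Submonoid.powers (f i)) L).mp hkey
  simp only at hN
  let k : Fin r →₀ ℕ := Finsupp.single i (N + m)
  have hQ' : (Q * monomial k 1).IsHomogeneous (d + (N + m)) :=
    hQh.mul (isHomogeneous_monomial _ (Finsupp.degree_single i (N + m)))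
  have hmem : eval f (Q * monomial k 1) ∈ I ^ (d + (N + m) + 1) := by
    simp only [map_mul, eval_monomial, one_mul, k]
    rw [Finsupp.prod_single_index (by exact pow_zero (f i))]
    rw [show eval f Q * f i ^ (N + m) = f i ^ N * (eval f Q * f i ^ m) by ring, hN,
      show f i ^ N * (f i ^ (d + 1) * x) = f i ^ (N + (d + 1)) * x by ring,
      show d + (N + m) + 1 = N + (d + 1) + m by ring, pow_add (I)]
    exact Ideal.mul_mem_mul (Ideal.pow_mem_pow hfi _) hx
  intro s
  by_cases hs : s ∈ P.support
  · have h := hQR _ _ hQ' hmem (e s + k)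
    rw [coeff_mul_monomial, mul_one] at h
    simp only [Q, coeff_sum, coeff_monomial] at h
    rwa [Finset.sum_eq_single s (fun t _ ht => if_neg fun h' => ht (he h')) (fun h' => absurd hs h'), if_pos rfl] at h
  · rw [notMem_support_iff.mp hs]; exact zero_mem _

theorem smooth_quotientMap_of_aeval {C : Type u} [CommRing C] [Algebra A C] {σ : Type} [Finite σ] (K : Ideal A)
    (u : σ → C) (hs : Function.Surjective (aeval (R := A) u))
    (hk : ∀ P : MvPolynomial σ A, aeval u P ∈ K.map (algebraMap A C) → ∀ s, P.coeff s ∈ K) :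
    RingHom.Smooth (R := A ⧸ K) (S := C ⧸ K.map (algebraMap A C))
      (Ideal.quotientMap (K.map (algebraMap A C)) (algebraMap A C) Ideal.le_comap_map) := by
  classical
  set J : Ideal C := K.map (algebraMap A C) with hJ
  set ψ : A ⧸ K →+* C ⧸ J := Ideal.quotientMap J (algebraMap A C) Ideal.le_comap_map
  let Φ : MvPolynomial σ (A ⧸ K) →+* C ⧸ J := eval₂Hom ψ fun j => Ideal.Quotient.mk J (u j)
  have hΦ : ∀ P, Φ (MvPolynomial.map (Ideal.Quotient.mk K) P) = Ideal.Quotient.mk J (aeval u P) := by
    intro P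
    simp only [Φ, coe_eval₂Hom, eval₂_map, aeval_def]
    rw [MvPolynomial.eval₂_comp_left]
    rfl
  have hbij : Function.Bijective Φ := by
    refine ⟨(injective_iff_map_eq_zero _).mpr fun Pb hP => ?_, fun c => ?_⟩
    · obtain ⟨P, rfl⟩ := map_surjective _ Ideal.Quotient.mk_surjective Pb
      rw [hΦ, Ideal.Quotient.eq_zero_iff_mem] at hP
      refine MvPolynomial.ext _ _ fun s => ?_
      rw [coeff_map, coeff_zero, Ideal.Quotient.eq_zero_iff_mem]
      exact hk P hP s
    · obtain ⟨c, rfl⟩ := Ideal.Quotient.mk_surjective c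
      obtain ⟨P, rfl⟩ := hs c
      exact ⟨_, hΦ P⟩
  have hψ : ψ = Φ.comp MvPolynomial.C := RingHom.ext fun x => (eval₂Hom_C ψ _ x).symm
  rw [hψ]
  exact RingHom.Smooth.stableUnderComposition _ _ (RingHom.smooth_algebraMap.mpr ⟨inferInstance, inferInstance⟩)
    (RingHom.Smooth.of_bijective hbij)

theorem smooth_chartQuot (hQR : Groth.Agent.QReg16Lib.QR f) :
    RingHom.Smooth (R := A ⧸ I) (S := C' ⧸ (I).map (algebraMap A C'))
      (Ideal.quotientMap ((I).map (algebraMap A C')) (algebraMap A C') Ideal.le_comap_map) := by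
  classical
  refine smooth_quotientMap_of_aeval (I) _ (aeval_chartVar_surjective f i) fun P hP => coeff_mem_of_aeval_mem f i hQR P ?_
  rwa [(isChart_affineAlgebra (A := A) (Ideal.subset_span ⟨i, rfl⟩ : f i ∈ I)).span] at hP

end BlowUpLib
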