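import Mathlib
import Groth.Prelude.Def_Mor2
import Groth.Agent.BlowUpLib.RegChart

/-!
# The exceptional divisor of a blow-up along a regular closed immersion is smooth over the centre
-/

set_option autoImplicit false
universe u

open CategoryTheory CategoryTheory.Limits AlgebraicGeometry TopologicalSpace

namespace BlowUpLib

theorem ker_SpecMap_mk {A : Type u} [CommRing A] (K : Ideal A) :
    (Spec.map (CommRingCat.ofHom (Ideal.Quotient.mk K))).ker = specIdeal K := by
  haveI : IsClosedImmersion (Spec.map (CommRingCat.ofHom (Ideal.Quotient.mk K))) :=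
    IsClosedImmersion.spec_of_surjective _ Ideal.Quotient.mk_surjective
  refine Scheme.IdealSheafData.ext_of_isAffine ?_
  rw [specIdeal_top, Scheme.Hom.ker_apply]
  ext x
  obtain ⟨a, rfl⟩ := (ConcreteCategory.bijective_of_isIso (Scheme.ΓSpecIso (CommRingCat.of A)).inv).2 x
  refine Iff.trans ?_ (Ideal.mem_map_iff_of_surjective _ (ConcreteCategory.bijective_of_isIso (Scheme.ΓSpecIso (CommRingCat.of A)).inv).2).symm
  rw [RingHom.mem_ker]
  have hnat := congrArg (fun φ => φ.hom a) (Scheme.ΓSpecIso_inv_naturality (CommRingCat.ofHom (Ideal.Quotient.mk K)))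
  constructor
  · intro h
    refine ⟨a, Ideal.Quotient.eq_zero_iff_mem.mp ?_, rfl⟩
    apply (ConcreteCategory.bijective_of_isIso (Scheme.ΓSpecIso (CommRingCat.of (A ⧸ K))).inv).1
    rw [map_zero]
    exact hnat.trans h
  · rintro ⟨b, hb, he⟩
    obtain rfl := (ConcreteCategory.bijective_of_isIso (Scheme.ΓSpecIso (CommRingCat.of A)).inv).1 he
    refine hnat.symm.trans ?_
    show (Scheme.ΓSpecIso (CommRingCat.of (A ⧸ K))).inv.hom (Ideal.Quotient.mk K b) = 0
    rw [Ideal.Quotient.eq_zero_iff_mem.mpr hb, map_zero]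

theorem exists_degOne_notMem_of_span {A : Type u} [CommRing A] (I : Ideal A) (S : Set A) (hS : Ideal.span S = I)
    (x : Proj (Rees.deg (reesAlgebra I))) :
    ∃ (a : I), a.1 ∈ S ∧ x ∈ Proj.basicOpen (Rees.deg (reesAlgebra I)) (degOne I a.1 a.2) := by
  obtain ⟨a, ha⟩ := exists_degOne_notMem I x
  by_contra hx
  simp only [not_exists, not_and, Proj.mem_basicOpen, not_not] at hx
  let J : Ideal A :=
    { carrier := {b | ∃ hb : b ∈ I, degOne I b hb ∈ x.asHomogeneousIdeal}
      zero_mem' := ⟨zero_mem _, by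
        show degOne I 0 _ ∈ x.asHomogeneousIdeal.toIdeal
        rw [show degOne I 0 (zero_mem _) = 0 from Subtype.ext (map_zero (Polynomial.monomial 1))]
        exact zero_mem _⟩
      add_mem' := by
        rintro b c ⟨hb, hb'⟩ ⟨hc, hc'⟩
        refine ⟨add_mem hb hc, ?_⟩
        show degOne I (b + c) _ ∈ x.asHomogeneousIdeal.toIdeal
        rw [show degOne I (b + c) (add_mem hb hc) = degOne I b hb + degOne I c hc from
          Subtype.ext (map_add (Polynomial.monomial 1) b c)]
        exact add_mem hb' hc'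
      smul_mem' := by
        rintro c b ⟨hb, hb'⟩
        refine ⟨I.smul_mem c hb, ?_⟩
        show degOne I (c * b) _ ∈ x.asHomogeneousIdeal.toIdeal
        rw [show degOne I (c * b) (I.smul_mem c hb) = algebraMap A (reesAlgebra I) c * degOne I b hb from
          Subtype.ext (Polynomial.C_mul_monomial.symm)]
        exact Ideal.mul_mem_left _ _ hb' }
  have hle : Ideal.span S ≤ J := Ideal.span_le.mpr fun b hb =>
    ⟨hS ▸ Ideal.subset_span hb, hx ⟨b, hS ▸ Ideal.subset_span hb⟩ hb⟩
  obtain ⟨_, h⟩ := hle (show a.1 ∈ Ideal.span S by rw [hS]; exact a.2)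
  exact (Proj.mem_basicOpen _ _ _).mp ha h

theorem exists_chart_spec_of_span {A : Type u} [CommRing A] (I : Ideal A) (S : Set A) (hS : Ideal.span S = I)
    {P : Scheme.{u}} {p : P ⟶ Spec (CommRingCat.of A)} (hp : BlowUp.IsBlowUp p (specIdeal I)) (x : P) :
    ∃ (a : A) (_ : a ∈ S) (c : Spec (CommRingCat.of (BlowUp.affineAlgebra A I a)) ⟶ P)
      (_ : IsOpenImmersion c), x ∈ Set.range c ∧
        c ≫ p = Spec.map (CommRingCat.ofHom (algebraMap A (BlowUp.affineAlgebra A I a))) := by
  obtain ⟨e, he⟩ := exists_iso hp (isBlowUp_proj I)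
  obtain ⟨⟨a, ha⟩, haS, hx⟩ := exists_degOne_notMem_of_span I S hS (e.inv x)
  rw [← Proj.opensRange_awayι _ _ (degOne_mem I a ha) one_pos] at hx
  obtain ⟨q, hq⟩ := hx
  let w := RingEquiv.toCommRingCatIso (R := HomogeneousLocalization.Away (Rees.deg (reesAlgebra I)) (degOne I a ha))
    (S := BlowUp.affineAlgebra A I a) (awayEquiv I a ha)
  refine ⟨a, haS, Spec.map w.hom ≫ Proj.awayι _ _ (degOne_mem I a ha) one_pos ≫ e.hom, inferInstance,
    ⟨Spec.map w.inv q, ?_⟩, ?_⟩
  · rw [← Scheme.Hom.comp_apply, ← Category.assoc, ← Spec.map_comp, w.hom_inv_id, Spec.map_id,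
      Category.id_comp, Scheme.Hom.comp_apply, hq, ← Scheme.Hom.comp_apply, e.inv_hom_id]
    rfl
  · rw [Category.assoc, Category.assoc, he]
    change _ ≫ _ ≫ Proj.toSpecZero _ ≫ Spec.map _ = _
    rw [Proj.awayι_toSpecZero_assoc, ← Spec.map_comp, ← Spec.map_comp]
    exact congrArg (fun φ => Spec.map (CommRingCat.ofHom φ)) (awayEquiv_comp I a ha)

theorem exists_qr_family {A : Type u} [CommRing A] (rs : List A) (h : RingTheory.Sequence.IsRegular A rs) :
    ∃ (r : ℕ) (f : Fin r → A), Groth.Agent.QReg16Lib.QR f ∧ Ideal.span (Set.range f) = Ideal.ofList rs := by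
  have hf : RingTheory.Sequence.IsWeaklyRegular A (List.ofFn rs.get) := by
    rw [List.ofFn_get]; exact h.toIsWeaklyRegular
  refine ⟨rs.length, fun j => rs.get (Fin.rev j),
    Groth.Agent.QReg16Lib.qr_of_nr' _ (Groth.Agent.QReg16Lib.nr'_of_nr _ ((FVLib.nr_iff _).2 hf)), ?_⟩
  rw [show (fun j => rs.get (Fin.rev j)) = rs.get ∘ Fin.rev from rfl, Fin.rev_surjective.range_comp]
  show _ = Ideal.span {x | x ∈ rs}
  exact congrArg Ideal.span (Set.ext fun x => by simp [List.mem_iff_get])

theorem smooth_chartQuot' {A : Type u} [CommRing A] {r : ℕ} (f : Fin r → A) (j : Fin r) (K : Ideal A)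
    (hK : Ideal.span (Set.range f) = K) (hQR : Groth.Agent.QReg16Lib.QR f) :
    RingHom.Smooth (R := A ⧸ K) (S := BlowUp.affineAlgebra A K (f j) ⧸ K.map (algebraMap A (BlowUp.affineAlgebra A K (f j))))
      (Ideal.quotientMap (K.map (algebraMap A (BlowUp.affineAlgebra A K (f j))))
        (algebraMap A (BlowUp.affineAlgebra A K (f j))) Ideal.le_comap_map) := by
  subst hK
  exact smooth_chartQuot f j hQR

variable {X X' Y : Scheme.{u}}

theorem smooth_exceptional (i : Y ⟶ X) (hi : Mor2.IsRegularClosedImmersion i)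
    (b : X' ⟶ X) (hb : BlowUp.IsBlowUp b i.ker) (g : (BlowUp.exceptional b i.ker).subscheme ⟶ Y)
    (hg : g ≫ i = (BlowUp.exceptional b i.ker).subschemeι ≫ b) : Smooth g := by
  obtain ⟨hcl, hloc⟩ := hi
  haveI := hcl
  haveI : IsClosedImmersion i := hcl
  let E := (BlowUp.exceptional b i.ker).subscheme
  let ι := (BlowUp.exceptional b i.ker).subschemeι
  have hex : ∀ z : E, ∃ (T : Scheme.{u}) (t : T ⟶ E), IsOpenImmersion t ∧ z ∈ Set.range t ∧ Smooth (t ≫ g) := by
    intro z
    obtain ⟨U, hU, hzU, rs, hrs, hker⟩ := hloc (g z)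
    obtain ⟨r, f, hQR, hspan⟩ := exists_qr_family rs hrs
    let A := Γ(X, U)
    let I : Ideal A := i.ker.ideal ⟨U, hU⟩
    have hIf : Ideal.span (Set.range f) = I := hspan.trans hker.symm
    have hP : BlowUp.IsBlowUp (pullback.fst hU.fromSpec b) (specIdeal (A := A) I) :=
      comap_fromSpec i.ker ⟨U, hU⟩ ▸ isBlowUp_of_isPullback (IsPullback.of_hasPullback hU.fromSpec b).flip hb
    have hbz : b (ι z) = i (g z) := by
      rw [← Scheme.Hom.comp_apply, ← hg, Scheme.Hom.comp_apply]
    obtain ⟨u₀, hu₀⟩ : b (ι z) ∈ Set.range hU.fromSpec := hU.range_fromSpec.symm ▸ hbz ▸ hzU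
    obtain ⟨y, -, hy⟩ := Scheme.Pullback.exists_preimage_pullback (f := hU.fromSpec) (g := b) u₀ (ι z) hu₀
    obtain ⟨a, ⟨j, rfl⟩, c₀, _, ⟨q₀, hq₀⟩, hc₀⟩ := exists_chart_spec_of_span I (Set.range f) hIf hP y
    obtain ⟨c, hco, hcz, hcb⟩ : ∃ (c : Spec (CommRingCat.of (BlowUp.affineAlgebra A I (f j))) ⟶ X'),
        IsOpenImmersion c ∧ c q₀ = ι z ∧
        c ≫ b = Spec.map (CommRingCat.ofHom (algebraMap A (BlowUp.affineAlgebra A I (f j)))) ≫ hU.fromSpec := by
      refine ⟨c₀ ≫ pullback.snd hU.fromSpec b, inferInstance, ?_, ?_⟩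
      · rw [Scheme.Hom.comp_apply, hq₀, hy]
      · rw [Category.assoc, ← pullback.condition, reassoc_of% hc₀]
    haveI := hco
    let C := BlowUp.affineAlgebra A I (f j)
    let alg : A →+* C := algebraMap A C
    let J : Ideal C := I.map alg
    let kC : Spec (CommRingCat.of (C ⧸ J)) ⟶ Spec (CommRingCat.of C) := Spec.map (CommRingCat.ofHom (Ideal.Quotient.mk J))
    let kA : Spec (CommRingCat.of (A ⧸ I)) ⟶ Spec (CommRingCat.of A) := Spec.map (CommRingCat.ofHom (Ideal.Quotient.mk I))
    haveI : IsClosedImmersion kC := IsClosedImmersion.spec_of_surjective _ Ideal.Quotient.mk_surjective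
    haveI : IsClosedImmersion kA := IsClosedImmersion.spec_of_surjective _ Ideal.Quotient.mk_surjective
    have hkc : (BlowUp.exceptional b i.ker).comap c = kC.ker := by
      rw [ker_SpecMap_mk]
      show (i.ker.comap b).comap c = _
      rw [← Scheme.IdealSheafData.comap_comp, hcb, Scheme.IdealSheafData.comap_comp, comap_fromSpec i.ker ⟨U, hU⟩]
      exact comap_specIdeal alg I
    have hka : i.ker.comap hU.fromSpec = kA.ker := by
      rw [ker_SpecMap_mk]; exact comap_fromSpec i.ker ⟨U, hU⟩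
    obtain ⟨t, ht⟩ : ∃ t, t ≫ ι = kC ≫ c := ⟨IsClosedImmersion.lift ι (kC ≫ c) (by
        rw [Scheme.IdealSheafData.ker_subschemeι, Scheme.Hom.ker_comp, Scheme.IdealSheafData.le_map_iff_comap_le, hkc]),
      IsClosedImmersion.lift_fac _ _ _⟩
    obtain ⟨s, hs⟩ : ∃ s, s ≫ i = kA ≫ hU.fromSpec := ⟨IsClosedImmersion.lift i (kA ≫ hU.fromSpec) (by
        rw [Scheme.Hom.ker_comp, Scheme.IdealSheafData.le_map_iff_comap_le, hka]),
      IsClosedImmersion.lift_fac _ _ _⟩
    have sqt : IsPullback kC t c ι := isPullback_of_isClosedImmersion kC ι t c ht.symm (by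
      rw [Scheme.IdealSheafData.ker_subschemeι]; exact hkc)
    have sqs : IsPullback kA s hU.fromSpec i := isPullback_of_isClosedImmersion kA i s _ hs.symm hka
    haveI : IsOpenImmersion t := MorphismProperty.of_isPullback sqt hco
    haveI : IsOpenImmersion s := MorphismProperty.of_isPullback sqs inferInstance
    let ψ : A ⧸ I →+* C ⧸ J := Ideal.quotientMap J alg Ideal.le_comap_map
    refine ⟨_, t, inferInstance, ?_, ?_⟩
    · obtain ⟨p, -, hp⟩ := Scheme.exists_preimage_of_isPullback sqt q₀ z hcz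
      exact ⟨p, hp⟩
    · have hcomp : t ≫ g = Spec.map (CommRingCat.ofHom ψ) ≫ s := by
        rw [← cancel_mono i, Category.assoc, Category.assoc, hg, hs, reassoc_of% ht, hcb]
        simp only [kA, kC, ← Category.assoc, ← Spec.map_comp]
        rfl
      rw [hcomp]
      haveI : Smooth (Spec.map (CommRingCat.ofHom ψ)) := by
        rw [HasRingHomProperty.Spec_iff (P := @Smooth)]
        exact smooth_chartQuot' f j I hIf hQR
      infer_instance
  choose T t ht hz hsm using hex
  let 𝒰 : E.OpenCover := Scheme.Cover.mkOfCovers E T t (fun z => ⟨z, hz z⟩) ht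
  exact (IsZariskiLocalAtSource.iff_of_openCover (P := @Smooth) 𝒰).mpr hsm

end BlowUpLib
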