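import Mathlib
import Groth.Prelude.Def_BlowUp2
import Groth.Agent.BlowUpLib.Props
import Groth.Agent.EffCartLib.Basic
import Groth.Agent.FComplLib.Modules
import Groth.Agent.S9501
import Groth.Agent.S1535
import Groth.Agent.S0560
import Groth.Agent.CommAlgDim.Regular

/-!
# Regularity off the centre of a blow-up with smooth exceptional divisor
-/

set_option autoImplicit false
universe u

open CategoryTheory CategoryTheory.Limits AlgebraicGeometry TopologicalSpace IsLocalRing

namespace BlowUpLib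

set_option maxHeartbeats 1600000 in
theorem isRegularLocalRing_of_flat_fibre (R S : Type u) [CommRing R] [IsRegularLocalRing R] [CommRing S]
    [IsLocalRing S] [IsNoetherianRing S] [Algebra R S] [IsLocalHom (algebraMap R S)] [Module.Flat R S]
    [IsRegularLocalRing (S ⧸ (maximalIdeal R).map (algebraMap R S))] : IsRegularLocalRing S := by
  set P := (maximalIdeal R).map (algebraMap R S) with hP
  haveI : IsDomain (S ⧸ P) := CommAlgDim.isDomain_of_isRegularLocalRing _
  haveI : P.IsPrime := (Ideal.Quotient.isDomain_iff_prime P).mp inferInstance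
  haveI : P.LiesOver (maximalIdeal R) := ⟨((maximalIdeal.isMaximal R).eq_of_le
    (Ideal.IsPrime.ne_top (Ideal.IsPrime.under R P)) Ideal.le_comap_map)⟩
  refine J2Lib.isRegularLocalRing_of_quotient_height P ?_
  have h2 : (maximalIdeal R).height ≤ P.height :=
    le_of_le_of_eq le_self_add (Ideal.height_eq_height_add_of_liesOver_of_hasGoingDown (maximalIdeal R) P).symm
  have h1 : P.spanFinrank ≤ (maximalIdeal R).spanFinrank := Ideal.spanFinrank_map_le_of_fg (algebraMap R S) (IsNoetherian.noetherian _)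
  refine le_trans ?_ h2
  refine le_trans (ENat.coe_le_coe.mpr h1) (le_of_eq ?_)
  have h3 : (((maximalIdeal R).spanFinrank : ℕ) : WithBot ℕ∞) = ringKrullDim R := IsRegularLocalRing.spanFinrank_maximalIdeal
  rw [← IsLocalRing.maximalIdeal_height_eq_ringKrullDim] at h3
  exact WithBot.coe_injective h3

theorem isRegularLocalRing_of_localizations {R : Type u} [CommRing R] (P Q : Ideal R) [P.IsPrime] [Q.IsPrime] (h : Q ≤ P)
    (S T : Type u) [CommRing S] [CommRing T] [Algebra R S] [Algebra R T] [IsLocalization.AtPrime S P]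
    [IsLocalization.AtPrime T Q] [IsRegularLocalRing S] : IsRegularLocalRing T := by
  have hdisj : Disjoint (P.primeCompl : Set R) Q := Set.disjoint_left.mpr fun s hs hsq => hs (h hsq)
  let Q' : Ideal S := Q.map (algebraMap R S)
  haveI : Q'.IsPrime := IsLocalization.isPrime_of_isPrime_disjoint P.primeCompl S _ ‹Q.IsPrime› hdisj
  haveI := CommAlgDim.isRegularLocalRing_localization S Q'
  haveI : IsLocalization.AtPrime (Localization.AtPrime Q') Q := by
    have h2 := IsLocalization.isLocalization_isLocalization_atPrime_isLocalization P.primeCompl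
      (Localization.AtPrime Q') Q'
    have e : Q'.comap (algebraMap R S) = Q :=
      IsLocalization.under_map_of_isPrime_disjoint P.primeCompl S ‹Q.IsPrime› hdisj
    simp only [e] at h2
    exact h2
  exact IsRegularLocalRing.of_ringEquiv
    (IsLocalization.algEquiv Q.primeCompl (Localization.AtPrime Q') T).toRingEquiv

set_option maxHeartbeats 1600000 in
theorem isRegularLocalRing_stalk_of_smooth {X S : Scheme.{u}} [IsLocallyNoetherian X] (f : X ⟶ S) [Smooth f]
    (x : X) [IsRegularLocalRing (S.presheaf.stalk (f x))] : IsRegularLocalRing (X.presheaf.stalk x) := by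
  obtain ⟨y, hy⟩ : ∃ y, f.fiberι (f x) y = x := ⟨f.asFiber x, f.fiberι_asFiber x⟩
  suffices H : IsRegularLocalRing (X.presheaf.stalk (f.fiberι (f x) y)) from hy ▸ H
  haveI : IsRegularLocalRing (S.presheaf.stalk (f (f.fiberι (f x) y))) := hy.symm ▸ ‹_›
  let F := f.fiber (f x)
  letI : F.Over (Spec (CommRingCat.of (S.residueField (f x)))) := ⟨f.fiberToSpecResidueField (f x)⟩
  haveI : Smooth (F ↘ Spec (CommRingCat.of (S.residueField (f x)))) :=
    MorphismProperty.pullback_snd (P := @Smooth) _ _ ‹Smooth f›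
  have hF : IsRegularLocalRing (F.presheaf.stalk y) := Groth.Agent.S1535.result (S.residueField (f x)) F y
  obtain ⟨hsurj, hker⟩ := Groth.Agent.S9501.result f (f x) y
  letI := (f.stalkMap (f.fiberι (f x) y)).hom.toAlgebra
  haveI : IsLocalHom (algebraMap (S.presheaf.stalk (f (f.fiberι (f x) y))) (X.presheaf.stalk (f.fiberι (f x) y))) :=
    inferInstanceAs (IsLocalHom (f.stalkMap (f.fiberι (f x) y)).hom)
  haveI : Module.Flat (S.presheaf.stalk (f (f.fiberι (f x) y))) (X.presheaf.stalk (f.fiberι (f x) y)) :=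
    Flat.stalkMap f _
  haveI := IsRegularLocalRing.of_ringEquiv
    ((Ideal.quotEquivOfEq hker.symm).trans (RingHom.quotientKerEquivOfSurjective hsurj)).symm
  exact isRegularLocalRing_of_flat_fibre (S.presheaf.stalk (f (f.fiberι (f x) y))) _

theorem isRegularLocalRing_off_center {X X' : Scheme.{u}} [IsLocallyNoetherian X]
    (𝓘 : X.IdealSheafData) (b : X' ⟶ X) (hb : BlowUp.IsBlowUp b 𝓘)
    (g : (BlowUp.exceptional b 𝓘).subscheme ⟶ 𝓘.subscheme)
    (hg : g ≫ 𝓘.subschemeι = (BlowUp.exceptional b 𝓘).subschemeι ≫ b)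
    [Smooth g] (y : ↥𝓘.subscheme) [IsRegularLocalRing (𝓘.subscheme.presheaf.stalk y)] (x₁ : ↥X)
    (hgen : x₁ ⤳ 𝓘.subschemeι y) (hx₁ : x₁ ∉ 𝓘.support) : IsRegularLocalRing (X.presheaf.stalk x₁) := by
  haveI : IsProper b := isProper_of_isBlowUp hb fun U => by
    haveI : IsNoetherianRing Γ(X, U.1) := IsLocallyNoetherian.component_noetherian U
    exact IsNoetherian.noetherian _
  haveI : IsLocallyNoetherian X' := LocallyOfFiniteType.isLocallyNoetherian b
  let ι := (BlowUp.exceptional b 𝓘).subschemeι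
  haveI : IsLocallyNoetherian (BlowUp.exceptional b 𝓘).subscheme := LocallyOfFiniteType.isLocallyNoetherian ι
  -- the point over `x₁`
  obtain ⟨U, hxU, hU⟩ : ∃ U : X.Opens, x₁ ∈ U ∧ U ≤ 𝓘.support.compl := ⟨𝓘.support.compl, hx₁, le_rfl⟩
  haveI := EffCartLib.isIso_off_center 𝓘 b hb U hU
  obtain ⟨u', hu'⟩ := (b ∣_ U).surjective ⟨x₁, hxU⟩
  have hu1 : b u'.1 = x₁ := by
    have := congrArg Subtype.val hu'
    rwa [morphismRestrict_base_coe] at this
  obtain ⟨z', hz', hbz'⟩ := b.isClosedMap.specializingMap (hu1.symm ▸ hgen : b u'.1 ⤳ 𝓘.subschemeι y)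
  obtain ⟨z, rfl⟩ : z' ∈ Set.range ι := by
    rw [Scheme.IdealSheafData.range_subschemeι, Scheme.IdealSheafData.support_comap]
    show b z' ∈ (𝓘.support : Set X)
    rw [hbz', ← Scheme.IdealSheafData.range_subschemeι]
    exact ⟨y, rfl⟩
  have hgz : g z = y := 𝓘.subschemeι.isClosedEmbedding.injective (by
    rw [← Scheme.Hom.comp_apply, hg, Scheme.Hom.comp_apply, hbz'])
  haveI : IsRegularLocalRing (𝓘.subscheme.presheaf.stalk (g z)) := hgz.symm ▸ ‹_›
  haveI hE := isRegularLocalRing_stalk_of_smooth g z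
  -- the Cartier equation
  obtain ⟨V, hzV, t, ht, hVt⟩ := hb.1 (ι z)
  haveI : IsRegularLocalRing (X'.presheaf.stalk (ι z)) := by
    let t' := X'.presheaf.germ V.1 (ι z) hzV t
    have hker : RingHom.ker (ι.stalkMap z).hom = Ideal.span {t'} := by
      rw [FComplLib.ker_stalkMap ι z V hzV, Scheme.IdealSheafData.ker_subschemeι]
      show ((𝓘.comap b).ideal V).map _ = _
      rw [hVt, Ideal.map_span, Set.image_singleton]
    haveI : IsRegularLocalRing (X'.presheaf.stalk (ι z) ⧸ Ideal.span {t'}) :=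
      IsRegularLocalRing.of_ringEquiv ((Ideal.quotEquivOfEq hker.symm).trans
        (RingHom.quotientKerEquivOfSurjective (ι.stalkMap_surjective z))).symm
    refine Groth.Agent.S0560.result _ t' ?_ ?_
    · refine fun hu => ?_
      have htop : Ideal.span {t'} = ⊤ := Ideal.span_singleton_eq_top.mpr hu
      exact RingHom.ker_ne_top (ι.stalkMap z).hom (hker.trans htop)
    · letI := X'.presheaf.algebra_section_stalk (⟨ι z, hzV⟩ : V.1)
      haveI := V.2.isLocalization_stalk ⟨ι z, hzV⟩
      exact IsLocalization.nonZeroDivisors_le_comap (V.2.primeIdealOf ⟨ι z, hzV⟩).asIdeal.primeCompl _ ht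
  -- descend to the generization
  have hu'V : u'.1 ∈ V.1 := hz'.mem_open V.1.isOpen hzV
  let P := V.2.primeIdealOf ⟨ι z, hzV⟩
  let Q := V.2.primeIdealOf ⟨u'.1, hu'V⟩
  have hQP : Q.asIdeal ≤ P.asIdeal := (PrimeSpectrum.le_iff_specializes Q P).mpr
    (V.2.fromSpec.isOpenEmbedding.isInducing.specializes_iff.mp (by
      rw [V.2.fromSpec_primeIdealOf, V.2.fromSpec_primeIdealOf]; exact hz'))
  haveI h1 : IsRegularLocalRing (X'.presheaf.stalk u'.1) := by
    letI := X'.presheaf.algebra_section_stalk (⟨ι z, hzV⟩ : V.1)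
    letI := X'.presheaf.algebra_section_stalk (⟨u'.1, hu'V⟩ : V.1)
    haveI := V.2.isLocalization_stalk ⟨ι z, hzV⟩
    haveI := V.2.isLocalization_stalk ⟨u'.1, hu'V⟩
    exact isRegularLocalRing_of_localizations P.asIdeal Q.asIdeal hQP (X'.presheaf.stalk (ι z)) (X'.presheaf.stalk u'.1)
  haveI : IsIso (b.stalkMap u'.1) :=
    ((MorphismProperty.isomorphisms CommRingCat).arrow_mk_iso_iff (morphismRestrictStalkMap b U u')).mp
      (inferInstanceAs (IsIso ((b ∣_ U).stalkMap u')))
  rw [← hu1]
  exact IsRegularLocalRing.of_ringEquiv (asIso (b.stalkMap u'.1)).commRingCatIsoToRingEquiv.symm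

end BlowUpLib
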