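import Groth.Agent.BlowUpLib.Univ
import Mathlib.AlgebraicGeometry.RelativeGluing

/-!
# Existence of blowing up
-/

set_option autoImplicit false

universe u

open CategoryTheory CategoryTheory.Limits AlgebraicGeometry TopologicalSpace

namespace BlowUpLib

variable {X X' : Scheme.{u}} {b : X' ⟶ X} {𝓘 : X.IdealSheafData}

theorem hom_ext {Y : Scheme.{u}} (hb : BlowUp.IsBlowUp b 𝓘) (g : Y ⟶ X)
    (hg : BlowUp.IsEffCartierIdeal (𝓘.comap g)) {k k' : Y ⟶ X'} (hk : k ≫ b = g) (hk' : k' ≫ b = g) :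
    k = k' :=
  (hb.2 Y g hg).unique hk hk'

/-- Blowing up commutes with flat base change. -/
theorem isBlowUp_of_isPullback {U P : Scheme.{u}} {j : U ⟶ X} [Flat j] {b' : P ⟶ U}
    {k : P ⟶ X'} (h : IsPullback k b' b j) (hb : BlowUp.IsBlowUp b 𝓘) :
    BlowUp.IsBlowUp b' (𝓘.comap j) := by
  have : Flat k := MorphismProperty.of_isPullback h.flip inferInstance
  refine ⟨?_, fun Y g hg => ?_⟩
  · rw [← Scheme.IdealSheafData.comap_comp, ← h.w, Scheme.IdealSheafData.comap_comp]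
    exact isEffCartier_comap_of_flat k hb.1
  · rw [← Scheme.IdealSheafData.comap_comp] at hg
    obtain ⟨l, hl, hu⟩ := hb.2 Y (g ≫ j) hg
    refine ⟨h.lift l g hl, h.lift_snd _ _ _, fun m hm => h.hom_ext ?_ ?_⟩
    · rw [h.lift_fst]
      exact hu _ (by simp only [Category.assoc, h.w, reassoc_of% hm])
    · rw [h.lift_snd]
      exact hm

/-- Transport of a blowing up along an isomorphism of the base. -/
theorem isBlowUp_comp_iso {Z : Scheme.{u}} (e : X ≅ Z) {K : Z.IdealSheafData}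
    (hb : BlowUp.IsBlowUp b (K.comap e.hom)) : BlowUp.IsBlowUp (b ≫ e.hom) K := by
  refine ⟨by rw [Scheme.IdealSheafData.comap_comp]; exact hb.1, fun Y g hg => ?_⟩
  obtain ⟨l, hl, hu⟩ := hb.2 Y (g ≫ e.inv) (by
    rwa [← Scheme.IdealSheafData.comap_comp, Category.assoc, e.inv_hom_id, Category.comp_id])
  refine ⟨l, by simp [reassoc_of% hl], fun m hm => hu m ?_⟩
  simp [← hm]

theorem exists_specIdeal_eq {A : Type u} [CommRing A] (K : (Spec (CommRingCat.of A)).IdealSheafData) :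
    ∃ J : Ideal A, specIdeal J = K := by
  refine ⟨(K.ideal ⟨⊤, isAffineOpen_top _⟩).comap (Scheme.ΓSpecIso (CommRingCat.of A)).inv.hom, ?_⟩
  refine Scheme.IdealSheafData.ext_of_isAffine ?_
  rw [specIdeal_top]
  exact Ideal.map_comap_of_surjective _ (ConcreteCategory.bijective_of_isIso _).2 _

theorem exists_isBlowUp_of_isAffine (Z : Scheme.{u}) [IsAffine Z] (K : Z.IdealSheafData) :
    ∃ (Z' : Scheme.{u}) (p : Z' ⟶ Z), BlowUp.IsBlowUp p K := by
  obtain ⟨J, hJ⟩ := exists_specIdeal_eq (A := Γ(Z, ⊤)) (K.comap Z.isoSpec.inv)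
  exact ⟨_, _, isBlowUp_comp_iso Z.isoSpec.symm (hJ ▸ isBlowUp_proj J)⟩

/-- Two morphisms over `X` into a scheme which is locally a blow-up agree. -/
theorem hom_ext_of_local (𝒰 : X.OpenCover) {P : 𝒰.I₀ → Scheme.{u}} (q : ∀ i, P i ⟶ 𝒰.X i)
    (k : ∀ i, P i ⟶ X') (hsq : ∀ i, IsPullback (k i) (q i) b (𝒰.f i))
    (hq : ∀ i, BlowUp.IsBlowUp (q i) (𝓘.comap (𝒰.f i))) {Y : Scheme.{u}} (g : Y ⟶ X)
    (hg : BlowUp.IsEffCartierIdeal (𝓘.comap g)) (l l' : Y ⟶ X') (hl : l ≫ b = g) (hl' : l' ≫ b = g) :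
    l = l' := by
  refine Scheme.Cover.hom_ext (𝒰.pullback₁ g) _ _ fun i => ?_
  change pullback.fst g (𝒰.f i) ≫ l = pullback.fst g (𝒰.f i) ≫ l'
  have hc : BlowUp.IsEffCartierIdeal ((𝓘.comap (𝒰.f i)).comap (pullback.snd g (𝒰.f i))) := by
    rw [← Scheme.IdealSheafData.comap_comp, ← pullback.condition, Scheme.IdealSheafData.comap_comp]
    exact isEffCartier_comap_of_flat _ hg
  have e : (pullback.fst g (𝒰.f i) ≫ l) ≫ b = pullback.snd g (𝒰.f i) ≫ 𝒰.f i := by
    rw [Category.assoc, hl, pullback.condition]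
  have e' : (pullback.fst g (𝒰.f i) ≫ l') ≫ b = pullback.snd g (𝒰.f i) ≫ 𝒰.f i := by
    rw [Category.assoc, hl', pullback.condition]
  have := hom_ext (hq i) _ hc ((hsq i).lift_snd _ _ e) ((hsq i).lift_snd _ _ e')
  rw [← (hsq i).lift_fst _ _ e, this, (hsq i).lift_fst]

/-- Being a blowing up is local on the base. -/
theorem isBlowUp_of_local (𝒰 : X.OpenCover) {P : 𝒰.I₀ → Scheme.{u}} (q : ∀ i, P i ⟶ 𝒰.X i)
    (k : ∀ i, P i ⟶ X') (hsq : ∀ i, IsPullback (k i) (q i) b (𝒰.f i))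
    (hq : ∀ i, BlowUp.IsBlowUp (q i) (𝓘.comap (𝒰.f i))) : BlowUp.IsBlowUp b 𝓘 := by
  refine ⟨isEffCartier_of_cover fun x' => ?_, fun Y g hg => ?_⟩
  · obtain ⟨i, z, hz⟩ := 𝒰.exists_eq (b x')
    have hk : IsOpenImmersion (k i) := MorphismProperty.of_isPullback (hsq i).flip inferInstance
    obtain ⟨p, hp, -⟩ := Scheme.exists_preimage_of_isPullback (hsq i) x' z hz.symm
    refine ⟨_, k i, hk, ⟨p, hp⟩, ?_⟩
    rw [← Scheme.IdealSheafData.comap_comp, (hsq i).w, Scheme.IdealSheafData.comap_comp]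
    exact (hq i).1
  have hc : ∀ i, BlowUp.IsEffCartierIdeal ((𝓘.comap (𝒰.f i)).comap (pullback.snd g (𝒰.f i))) := by
    intro i
    rw [← Scheme.IdealSheafData.comap_comp, ← pullback.condition, Scheme.IdealSheafData.comap_comp]
    exact isEffCartier_comap_of_flat _ hg
  choose l hl hlu using fun i => (hq i).2 _ (pullback.snd g (𝒰.f i)) (hc i)
  have hlb : ∀ i, (l i ≫ k i) ≫ b = pullback.fst g (𝒰.f i) ≫ g := fun i => by
    rw [Category.assoc, (hsq i).w, reassoc_of% (hl i), pullback.condition]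
  let 𝒱 : Y.OpenCover := 𝒰.pullback₁ g
  have hglue : ∀ i i', pullback.fst (pullback.fst g (𝒰.f i)) (pullback.fst g (𝒰.f i')) ≫ l i ≫ k i =
      pullback.snd (pullback.fst g (𝒰.f i)) (pullback.fst g (𝒰.f i')) ≫ l i' ≫ k i' := by
    intro i i'
    refine hom_ext_of_local 𝒰 q k hsq hq
      ((pullback.fst (pullback.fst g (𝒰.f i)) (pullback.fst g (𝒰.f i')) ≫ pullback.fst g (𝒰.f i)) ≫ g)
      ?_ _ _ ?_ ?_
    · rw [Scheme.IdealSheafData.comap_comp]
      exact isEffCartier_comap_of_flat _ hg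
    · rw [Category.assoc, hlb, Category.assoc]
    · rw [Category.assoc, hlb, ← Category.assoc, ← pullback.condition]
  refine ⟨𝒱.glueMorphisms (fun i => l i ≫ k i) hglue, ?_, fun m hm => ?_⟩
  · refine Scheme.Cover.hom_ext 𝒱 _ _ fun i => ?_
    rw [← Category.assoc, Scheme.Cover.ι_glueMorphisms]
    exact hlb i
  · refine hom_ext_of_local 𝒰 q k hsq hq g hg _ _ hm ?_
    refine Scheme.Cover.hom_ext 𝒱 _ _ fun i => ?_
    rw [← Category.assoc, Scheme.Cover.ι_glueMorphisms]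
    exact hlb i

theorem isBlowUp_glued {𝒰 : X.OpenCover} [Category 𝒰.I₀] [𝒰.LocallyDirected] [Small.{u} 𝒰.I₀]
    [Quiver.IsThin 𝒰.I₀] (d : 𝒰.RelativeGluingData)
    (hd : ∀ i, BlowUp.IsBlowUp (d.natTrans.app i) (𝓘.comap (𝒰.f i))) : BlowUp.IsBlowUp d.toBase 𝓘 :=
  isBlowUp_of_local 𝒰 (fun i => d.natTrans.app i) (fun i => colimit.ι d.functor i)
    (fun i => (d.isPullback_natTrans_ι_toBase i).flip) hd

/-- Blowing ups exist. -/
theorem exists_isBlowUp (X : Scheme.{u}) (𝓘 : X.IdealSheafData) :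
    ∃ (X' : Scheme.{u}) (b : X' ⟶ X), BlowUp.IsBlowUp b 𝓘 := by
  let 𝒰 := X.directedAffineCover
  have haff : ∀ U : X.affineOpens, IsAffine (U.1 : Scheme) := fun U => U.2
  choose B p hp using fun U : X.affineOpens =>
    exists_isBlowUp_of_isAffine (U.1 : Scheme) (𝓘.comap U.1.ι)
  have hc : ∀ {U V : X.affineOpens} (h : U ≤ V),
      BlowUp.IsEffCartierIdeal ((𝓘.comap V.1.ι).comap (p U ≫ X.homOfLE h)) := fun {U V} h => by
    rw [← Scheme.IdealSheafData.comap_comp, Category.assoc, Scheme.homOfLE_ι,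
      Scheme.IdealSheafData.comap_comp]
    exact (hp U).1
  choose m hm hmu using fun (U V : X.affineOpens) (h : U ≤ V) => (hp V).2 (B U) _ (hc h)
  let F : 𝒰.I₀ ⥤ Scheme.{u} :=
    { obj := fun U => B U
      map := fun {U V} h => m U V (leOfHom h)
      map_id := fun (U : X.affineOpens) => (hmu U U le_rfl (𝟙 _) (by
        change 𝟙 (B U) ≫ p U = p U ≫ X.homOfLE (le_refl U.1)
        rw [Category.id_comp, Scheme.homOfLE_rfl, Category.comp_id])).symm
      map_comp := fun {U V W : X.affineOpens} f g =>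
        (hmu U W (leOfHom (f ≫ g)) (m U V (leOfHom f) ≫ m V W (leOfHom g)) (by
          change (m U V (leOfHom f) ≫ m V W (leOfHom g)) ≫ p W = p U ≫ X.homOfLE _
          rw [Category.assoc, hm, reassoc_of% (hm U V (leOfHom f)), Scheme.homOfLE_homOfLE])).symm }
  let η : F ⟶ 𝒰.functorOfLocallyDirected :=
    { app := fun U => p U
      naturality := fun {U V} h => hm U V (leOfHom h) }
  have heq : η.Equifibered := fun {U V} h => by
    have hle : (U : X.affineOpens).1 ≤ (V : X.affineOpens).1 := leOfHom h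
    have hP : BlowUp.IsBlowUp (pullback.fst (X.homOfLE hle) (p V)) (𝓘.comap (U : X.affineOpens).1.ι) := by
      have h1 := isBlowUp_of_isPullback (IsPullback.of_hasPullback (X.homOfLE hle) (p V)).flip (hp V)
      rwa [← Scheme.IdealSheafData.comap_comp, Scheme.homOfLE_ι] at h1
    obtain ⟨e, he, -⟩ := (hp U).2 _ (pullback.fst (X.homOfLE hle) (p V)) hP.1
    have hw : p U ≫ X.homOfLE hle = m U V hle ≫ p V := (hm U V hle).symm
    have h2 : pullback.lift (p U) (m U V hle) hw ≫ e = 𝟙 _ :=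
      hom_ext (hp U) _ (hp U).1 (by rw [Category.assoc, he, pullback.lift_fst]) (Category.id_comp _)
    have h3 : e ≫ pullback.lift (p U) (m U V hle) hw = 𝟙 _ :=
      hom_ext hP _ hP.1 (by rw [Category.assoc, pullback.lift_fst, he]) (Category.id_comp _)
    have : IsIso (pullback.lift (p U) (m U V hle) hw) := ⟨e, h2, h3⟩
    refine ((IsPullback.of_hasPullback (X.homOfLE hle) (p V)).flip).of_iso
      (asIso (pullback.lift (p U) (m U V hle) hw)).symm (Iso.refl _) (Iso.refl _) (Iso.refl _)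
      ?_ ?_ ?_ ?_
    · simp only [asIso_inv, Iso.symm_hom, Iso.refl_hom, Category.comp_id]
      rw [IsIso.eq_inv_comp, pullback.lift_snd]
    · simp only [asIso_inv, Iso.symm_hom, Iso.refl_hom]
      rw [IsIso.eq_inv_comp]
      exact (congrArg (pullback.lift (p U) (m U V hle) hw ≫ ·) (Category.comp_id _)).trans (pullback.lift_fst _ _ _)
    · simp only [Iso.refl_hom, Category.id_comp]
      exact Category.comp_id _
    · simp only [Iso.refl_hom, Category.id_comp]
      exact Category.comp_id _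
  let d : 𝒰.RelativeGluingData := ⟨F, η, heq⟩
  haveI hthin : Quiver.IsThin 𝒰.I₀ := fun U V => (inferInstance : Subsingleton ((U : X.affineOpens) ⟶ V))
  haveI hsmall : Small.{u} 𝒰.I₀ := (inferInstance : Small.{u} X.affineOpens)
  exact ⟨_, d.toBase, isBlowUp_glued d fun U => hp U⟩

end BlowUpLib
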