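import Groth.Agent.ModPairLib.Basic
import Groth.Agent.BlowUpLib.Props

/-!
# The strict transform is the blow-up; integrality
-/

set_option autoImplicit false

universe u

open CategoryTheory CategoryTheory.Limits AlgebraicGeometry TopologicalSpace

namespace BlowUpLib

variable {X X' : Scheme.{u}} {b : X' ⟶ X} {𝓘 : X.IdealSheafData}

/-- For any `f : Y ⟶ X`, the closure of the complement of the exceptional divisor in `Y ×_X X'` is the blow-up
of `Y` in the inverse image centre. -/
theorem exists_strictTransform (hb : BlowUp.IsBlowUp b 𝓘) {Y : Scheme.{u}} (f : Y ⟶ X) :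
    ∃ (Y' : Scheme.{u}) (i : Y' ⟶ pullback f b),
      IsClosedImmersion i ∧ BlowUp.IsBlowUp (i ≫ pullback.fst f b) (𝓘.comap f) := by
  have hUq := ModPairLib.isAffineHom_interior hb.1
  let W := pullback.snd f b ⁻¹ᵁ ModPair.interior (𝓘.comap b)
  have hWq : QuasiCompact W.ι := by
    have : IsAffineHom W.ι :=
      MorphismProperty.of_isPullback (isPullback_morphismRestrict (pullback.snd f b) _) hUq
    infer_instance
  have hdom := ModPairLib.isDominant_toImage (f := W.ι)
  refine ⟨W.ι.image, W.ι.imageι, inferInstance, ?_, fun Z g hg => ?_⟩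
  · have h := ModPairLib.isEffCartier_comap_of_dominant hb.1 (W.ι.imageι ≫ pullback.snd f b) W.ι.toImage
      fun z => by
        rw [← Scheme.Hom.comp_apply, Scheme.Hom.toImage_imageι_assoc]
        exact z.2
    rwa [← Scheme.IdealSheafData.comap_comp, Category.assoc, ← pullback.condition, ← Category.assoc,
      Scheme.IdealSheafData.comap_comp] at h
  rw [← Scheme.IdealSheafData.comap_comp] at hg
  obtain ⟨l, hl, -⟩ := hb.2 Z (g ≫ f) hg
  let k : Z ⟶ pullback f b := pullback.lift g l hl.symm
  have hdz := ModPairLib.isDominant_interior hg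
  have hr : Set.range ((ModPair.interior (𝓘.comap (g ≫ f))).ι ≫ k) ⊆ Set.range W.ι := by
    rintro _ ⟨w, rfl⟩
    rw [Scheme.Opens.range_ι]
    change pullback.snd f b (k w.1) ∈ ModPair.interior (𝓘.comap b)
    rw [← Scheme.Hom.comp_apply, pullback.lift_snd]
    have hw : (w.1 : Z) ∈ ModPair.interior ((𝓘.comap b).comap l) := by
      rw [← Scheme.IdealSheafData.comap_comp, hl]
      exact w.2
    exact (ModPairLib.interior_comap _ l).le hw
  have hle : W.ι.imageι.ker ≤ k.ker := calc
    W.ι.imageι.ker = W.ι.ker := W.ι.ker.ker_subschemeι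
    _ ≤ (IsOpenImmersion.lift W.ι _ hr ≫ W.ι).ker := Scheme.Hom.le_ker_comp _ _
    _ = ((ModPair.interior (𝓘.comap (g ≫ f))).ι ≫ k).ker := by rw [IsOpenImmersion.lift_fac]
    _ = k.ker := by rw [Scheme.Hom.ker_comp, hdz.ker_eq_bot, Scheme.IdealSheafData.map_bot]
  let m : Z ⟶ W.ι.image := IsClosedImmersion.lift W.ι.imageι k hle
  have hm : m ≫ W.ι.imageι = k := IsClosedImmersion.lift_fac _ _ _
  refine ⟨m, show m ≫ W.ι.imageι ≫ pullback.fst f b = g by rw [reassoc_of% hm, pullback.lift_fst],
    fun m' hm' => ?_⟩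
  rw [← cancel_mono W.ι.imageι, hm]
  refine pullback.hom_ext ((Category.assoc _ _ _).trans (hm'.trans (pullback.lift_fst _ _ _).symm)) ?_
  rw [pullback.lift_snd]
  refine hom_ext hb (g ≫ f) hg ?_ hl
  rw [Category.assoc, Category.assoc, ← pullback.condition]
  simp [← hm']

theorem isClosedImmersion_map (hb : BlowUp.IsBlowUp b 𝓘) {Y Y' : Scheme.{u}} (f : Y ⟶ X)
    [IsClosedImmersion f] {b' : Y' ⟶ Y} (hb' : BlowUp.IsBlowUp b' (𝓘.comap f)) (f' : Y' ⟶ X')
    (hf' : f' ≫ b = b' ≫ f) : IsClosedImmersion f' := by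
  obtain ⟨Y'', i, hi, hi'⟩ := exists_strictTransform hb f
  obtain ⟨e, he⟩ := exists_iso hi' hb'
  have : f' = e.hom ≫ i ≫ pullback.snd f b := by
    refine hom_ext hb (b' ≫ f) ?_ hf' ?_
    · rw [Scheme.IdealSheafData.comap_comp]
      exact hb'.1
    · rw [Category.assoc, Category.assoc, ← pullback.condition, ← he]
      simp only [Category.assoc]
  rw [this]
  infer_instance

/-- The blow-up of an integral scheme in a nonzero ideal is integral and birational to it. -/
theorem isIntegral_of_isBlowUp [IsIntegral X] (hb : BlowUp.IsBlowUp b 𝓘) (h : 𝓘 ≠ ⊥) :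
    ∃ (_ : IsIntegral X'), ∃ _ : b.base (genericPoint X') = genericPoint X,
      Function.Bijective (b.residueFieldMap (genericPoint X')).hom := by
  let U : X.Opens := 𝓘.support.compl
  let V : X'.Opens := b ⁻¹ᵁ U
  have hUn : Nonempty U := by
    by_contra hU
    refine h (Scheme.IdealSheafData.support_eq_top_iff.mp (SetLike.ext fun x => ?_))
    exact iff_of_true (not_not.mp fun hx => hU ⟨⟨x, hx⟩⟩) trivial
  have hU : IsIntegral (U : Scheme.{u}) := isIntegral_of_isOpenImmersion U.ι
  have hiso : IsIso (b ∣_ U) := EffCartLib.isIso_off_center 𝓘 b hb U le_rfl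
  have hVn : Nonempty V := hUn.map fun x => ⟨(inv (b ∣_ U) x).1, (inv (b ∣_ U) x).2⟩
  have hV : IsIntegral (V : Scheme.{u}) := isIntegral_of_isOpenImmersion (b ∣_ U)
  have hred : IsReduced X' := isReduced_of_isBlowUp hb
  have hdense : Dense (V : Set X') := by
    have := ModPairLib.isAffineHom_interior hb.1
    have := ModPairLib.isDominant_interior hb.1
    have hd : IsDominant (ModPair.interior (𝓘.comap b)).ι := inferInstance
    have h2 : Dense (Set.range (ModPair.interior (𝓘.comap b)).ι) := hd.denseRange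
    rw [Scheme.Opens.range_ι] at h2
    rw [ModPairLib.interior_comap] at h2
    exact h2
  have hne : Nonempty X' := hVn.map Subtype.val
  have hirr : IrreducibleSpace X' := by
    have hi : IsIrreducible (V : Set X') := by
      rw [← Scheme.Opens.range_ι V, ← Set.image_univ]
      exact (IrreducibleSpace.isIrreducible_univ (V : Scheme.{u})).image _ V.ι.continuous.continuousOn
    have hu : IsIrreducible (Set.univ : Set X') := hdense.closure_eq ▸ hi.closure
    exact { isPreirreducible_univ := hu.2, toNonempty := hne }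
  have hint : IsIntegral X' := isIntegral_of_irreducibleSpace_of_isReduced X'
  have h₁ : V.ι (genericPoint V) = genericPoint X' := genericPoint_eq_of_isOpenImmersion V.ι
  have h₂ : (b ∣_ U) (genericPoint V) = genericPoint U := genericPoint_eq_of_isOpenImmersion (b ∣_ U)
  have h₃ : U.ι (genericPoint U) = genericPoint X := genericPoint_eq_of_isOpenImmersion U.ι
  refine ⟨hint, ?_, ?_⟩
  · rw [← h₁, ← h₃, ← h₂]
    exact (congr($(morphismRestrict_ι b U) (genericPoint V))).symm
  · rw [← h₁]
    have : IsIso (b.residueFieldMap (V.ι (genericPoint V)) ≫ V.ι.residueFieldMap (genericPoint V)) := by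
      have key : ∀ (φ : (V : Scheme.{u}) ⟶ X), φ = (b ∣_ U) ≫ U.ι → IsIso (φ.residueFieldMap (genericPoint V)) := by
        rintro _ rfl
        rw [Scheme.residueFieldMap_comp]
        haveI := hiso
        haveI : IsOpenImmersion (b ∣_ U) := IsOpenImmersion.of_isIso _
        have h5 : ∀ z : (U : Scheme.{u}), IsIso (U.ι.residueFieldMap z) := fun z => inferInstance
        exact IsIso.comp_isIso' (h5 _) inferInstance
      rw [← Scheme.residueFieldMap_comp]
      exact key _ (morphismRestrict_ι b U).symm
    have : IsIso (b.residueFieldMap (V.ι (genericPoint V))) := IsIso.of_isIso_comp_right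
      (b.residueFieldMap (V.ι (genericPoint V))) (V.ι.residueFieldMap (genericPoint V))
    exact ConcreteCategory.bijective_of_isIso (b.residueFieldMap (V.ι (genericPoint V)))

end BlowUpLib
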