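import Groth.Prelude.Def_BlowUp2
import Groth.Agent.S4666
import Mathlib.AlgebraicGeometry.Morphisms.Flat
import Mathlib.RingTheory.Flat.TorsionFree

/-!
# Effective Cartier ideals on `Spec`, pullback along flat maps, locality
-/

set_option autoImplicit false

universe u

open CategoryTheory CategoryTheory.Limits AlgebraicGeometry TopologicalSpace

namespace BlowUpLib

/-- The ideal sheaf on `Spec A` of an ideal `I` of `A`. -/
noncomputable abbrev specIdeal {A : Type u} [CommRing A] (I : Ideal A) :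
    (Spec (CommRingCat.of A)).IdealSheafData :=
  Scheme.IdealSheafData.ofIdealTop (I.map (Scheme.ΓSpecIso (CommRingCat.of A)).inv.hom)

variable {A B : Type u} [CommRing A] [CommRing B]

theorem specIdeal_top (I : Ideal A) :
    (specIdeal I).ideal ⟨⊤, isAffineOpen_top _⟩ = I.map (Scheme.ΓSpecIso (CommRingCat.of A)).inv.hom :=
  Scheme.IdealSheafData.equivOfIsAffine.right_inv _

theorem comap_specIdeal (φ : A →+* B) (I : Ideal A) :
    (specIdeal I).comap (Spec.map (CommRingCat.ofHom φ)) = specIdeal (I.map φ) := by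
  refine Scheme.IdealSheafData.ext_of_isAffine ?_
  rw [ChevLib.ideal_comap_top_of_isAffine, specIdeal_top, specIdeal_top, Ideal.map_map, Ideal.map_map,
    ← CommRingCat.hom_comp, ← Scheme.ΓSpecIso_inv_naturality]
  rfl

theorem specIdeal_injective : Function.Injective (specIdeal (A := A)) := by
  intro I J h
  have h' := congrArg (fun K : (Spec (CommRingCat.of A)).IdealSheafData => K.ideal ⟨⊤, isAffineOpen_top _⟩) h
  simp only [specIdeal_top] at h'
  have h2 := congrArg (Ideal.comap (Scheme.ΓSpecIso (CommRingCat.of A)).inv.hom) h'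
  rwa [Ideal.comap_map_of_bijective _ (ConcreteCategory.bijective_of_isIso _),
    Ideal.comap_map_of_bijective _ (ConcreteCategory.bijective_of_isIso _)] at h2

theorem nzd_of_bijective {R S : Type u} [CommRing R] [CommRing S] (φ : R →+* S)
    (hφ : Function.Bijective φ) {t : R} (ht : t ∈ nonZeroDivisors R) : φ t ∈ nonZeroDivisors S := by
  refine mem_nonZeroDivisors_iff_right.mpr fun z hz => ?_
  obtain ⟨w, rfl⟩ := hφ.2 z
  rw [← map_mul, ← map_zero φ] at hz
  rw [mem_nonZeroDivisors_iff_right.mp ht w (hφ.1 hz), map_zero]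

theorem nzd_of_flat {R S : Type u} [CommRing R] [CommRing S] (φ : R →+* S) (hφ : φ.Flat) {t : R}
    (ht : t ∈ nonZeroDivisors R) : φ t ∈ nonZeroDivisors S := by
  algebraize [φ]
  have : Module.Flat R S := hφ
  have h : IsSMulRegular S t := Module.Flat.isSMulRegular_of_nonZeroDivisors ht
  refine mem_nonZeroDivisors_iff_right.mpr fun z hz => h ?_
  show t • z = t • (0 : S)
  rw [smul_zero, Algebra.smul_def, mul_comm]
  exact hz

theorem isEffCartier_specIdeal {t : A} (ht : t ∈ nonZeroDivisors A) :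
    BlowUp.IsEffCartierIdeal (specIdeal (Ideal.span {t})) := fun x =>
  ⟨⟨⊤, isAffineOpen_top _⟩, trivial, (Scheme.ΓSpecIso (CommRingCat.of A)).inv.hom t,
    nzd_of_bijective _ (ConcreteCategory.bijective_of_isIso _) ht, by
      rw [specIdeal_top, Ideal.map_span, Set.image_singleton]⟩

variable {X Y : Scheme.{u}}

theorem exists_affine (x : X) {W : X.Opens} (hx : x ∈ W) : ∃ U : X.affineOpens, x ∈ U.1 ∧ U.1 ≤ W := by
  obtain ⟨U, hU, hxU, hUW⟩ := exists_isAffineOpen_mem_and_subset hx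
  exact ⟨⟨U, hU⟩, hxU, hUW⟩

/-- Effective Cartier ideals pull back along flat morphisms. -/
theorem isEffCartier_comap_of_flat (f : X ⟶ Y) [Flat f] {𝓙 : Y.IdealSheafData}
    (h : BlowUp.IsEffCartierIdeal 𝓙) : BlowUp.IsEffCartierIdeal (𝓙.comap f) := by
  intro x
  obtain ⟨U, hxU, t, ht, hJ⟩ := h (f x)
  obtain ⟨V, hxV, e⟩ := exists_affine x (W := f ⁻¹ᵁ U.1) hxU
  refine ⟨V, hxV, (f.appLE U.1 V.1 e).hom t,
    nzd_of_flat _ (HasRingHomProperty.appLE @Flat f ‹_› U V e) ht, ?_⟩
  rw [Groth.Agent.S4666.ideal_comap_eq _ f U V e, hJ, Ideal.map_span, Set.image_singleton]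

/-- Effective Cartier is local. -/
theorem isEffCartier_of_cover {𝓙 : Y.IdealSheafData}
    (h : ∀ y : Y, ∃ (Z : Scheme.{u}) (j : Z ⟶ Y) (_ : IsOpenImmersion j),
      y ∈ Set.range j ∧ BlowUp.IsEffCartierIdeal (𝓙.comap j)) :
    BlowUp.IsEffCartierIdeal 𝓙 := by
  intro y
  obtain ⟨Z, j, hj, ⟨z, rfl⟩, hc⟩ := h y
  obtain ⟨U, hzU, t, ht, hU⟩ := hc z
  refine ⟨⟨j ''ᵁ U.1, U.2.image_of_isOpenImmersion j⟩, ⟨z, hzU, rfl⟩, (j.appIso U.1).inv.hom t,
    nzd_of_bijective _ (ConcreteCategory.bijective_of_isIso _) ht, ?_⟩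
  rw [Scheme.IdealSheafData.ideal_comap_of_isOpenImmersion] at hU
  rw [← Set.image_singleton, ← Ideal.map_span, ← hU]
  exact (Ideal.map_comap_of_surjective (j.appIso U.1).inv.hom
    (ConcreteCategory.bijective_of_isIso _).2 _).symm

/-- An effective Cartier ideal is, around every point, principal on an affine chart. -/
theorem exists_spec_chart {𝓙 : Y.IdealSheafData} (h : BlowUp.IsEffCartierIdeal 𝓙) (y : Y) :
    ∃ (B : Type u) (_ : CommRing B) (j : Spec (CommRingCat.of B) ⟶ Y) (_ : IsOpenImmersion j)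
      (t : B), t ∈ nonZeroDivisors B ∧ y ∈ Set.range j ∧ 𝓙.comap j = specIdeal (Ideal.span {t}) := by
  obtain ⟨U, hyU, t, ht, hU⟩ := h y
  refine ⟨Γ(Y, U.1), inferInstance, U.2.fromSpec, inferInstance, t, ht, ?_, ?_⟩
  · rw [U.2.range_fromSpec]
    exact hyU
  · refine Scheme.IdealSheafData.ext_of_isAffine ?_
    rw [specIdeal_top, ChevLib.ideal_comap_openImmersion_top 𝓙 U.2.fromSpec U ((Scheme.Hom.image_top_eq_opensRange _).trans U.2.opensRange_fromSpec), hU,
      Ideal.map_span, Ideal.map_span, Set.image_singleton, Set.image_singleton]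
    congr 2
    rw [Scheme.Hom.appLE, U.2.fromSpec_app_self]
    simp only [Category.assoc, ← Functor.map_comp, CommRingCat.hom_comp, RingHom.comp_apply]
    exact DFunLike.congr_fun (congrArg CommRingCat.Hom.hom
      ((congrArg ((Spec Γ(Y, U.1)).presheaf.map) (Subsingleton.elim _ (𝟙 _))).trans
        ((Spec Γ(Y, U.1)).presheaf.map_id _))) _

end BlowUpLib
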